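import Cfsg.Agent.H772.MetaTwoB
import Cfsg.Prelude.Def_OddOrderLocal

/-!
# A metacyclic 2-group has no centric homocyclic subgroup of index 2 with small fixed points (helper772)
-/

set_option autoImplicit false

namespace Cfsg.Agent.H772

open Subgroup

/-- A cyclic group has at most one element of order 2. -/
theorem eq_of_orderOf_two {T : Type*} [Group T] [Finite T] (K : Subgroup T) [IsCyclic K] {u w : T}
    (hu : u ∈ K) (hw : w ∈ K) (hu2 : orderOf u = 2) (hw2 : orderOf w = 2) : u = w := by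
  classical
  have := Fintype.ofFinite K
  by_contra hne
  have h1 := IsCyclic.card_pow_eq_one_le (α := K) (n := 2) (by norm_num)
  have h2 : ({1, ⟨u, hu⟩, ⟨w, hw⟩} : Finset K) ⊆ Finset.univ.filter (fun a : K => a ^ 2 = 1) := by
    intro x hx
    simp only [Finset.mem_insert, Finset.mem_singleton] at hx
    simp only [Finset.mem_filter, Finset.mem_univ, true_and]
    rcases hx with rfl | rfl | rfl
    · exact one_pow _
    · apply Subtype.ext
      change u ^ 2 = 1
      rw [← hu2, pow_orderOf_eq_one]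
    · apply Subtype.ext
      change w ^ 2 = 1
      rw [← hw2, pow_orderOf_eq_one]
  have h3 := (Finset.card_le_card h2).trans h1
  have hu1 : u ≠ 1 := by
    rintro rfl
    rw [orderOf_one] at hu2
    norm_num at hu2
  have hw1 : w ≠ 1 := by
    rintro rfl
    rw [orderOf_one] at hw2
    norm_num at hw2
  rw [Finset.card_insert_of_notMem, Finset.card_insert_of_notMem, Finset.card_singleton] at h3
  · norm_num at h3
  · simp only [Finset.mem_singleton]
    intro h
    exact hne (congrArg Subtype.val h)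
  · simp only [Finset.mem_insert, Finset.mem_singleton, not_or]
    exact ⟨fun h => hu1 (congrArg Subtype.val h).symm, fun h => hw1 (congrArg Subtype.val h).symm⟩

theorem no_homocyclic {T : Type*} [Group T] [Finite T] (hm : Cfsg.IsMetacyclic T) (Q : Subgroup T)
    (hQi : Q.index = 2) (hab : ∀ a ∈ Q, ∀ b ∈ Q, a * b = b * a) (n : ℕ) (hn : 2 ≤ n)
    (hcard : Nat.card Q = 2 ^ n * 2 ^ n) (hexp : ∀ q ∈ Q, q ^ (2 ^ n) = 1)
    (hC : ∀ h, h ∉ Q → Nat.card (Q ⊓ centralizer ({h} : Set T) : Subgroup T) ≤ 2 ^ n) : False := by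
  classical
  obtain ⟨K, hK, hKc, hTc⟩ := hm
  have hQn : Q.Normal := Subgroup.normal_of_index_eq_two hQi
  obtain ⟨⟨a, haK⟩, ha⟩ := hKc.exists_generator
  have hKa : K = zpowers a := by
    refine le_antisymm (fun k hk => ?_) (zpowers_le.2 haK)
    obtain ⟨i, hi⟩ := ha ⟨k, hk⟩
    exact ⟨i, congrArg Subtype.val hi⟩
  have h2n : 0 < 2 ^ n := by positivity
  have h4n : 4 ≤ 2 ^ n := by
    calc 4 = 2 ^ 2 := by norm_num
      _ ≤ 2 ^ n := Nat.pow_le_pow_right (by norm_num) hn
  by_cases haQ : a ∈ Q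
  · -- `K ≤ Q`
    have hKQ : K ≤ Q := by rw [hKa]; exact zpowers_le.2 haQ
    obtain ⟨hbar, hh⟩ := hTc.exists_generator
    obtain ⟨h, rfl⟩ := QuotientGroup.mk_surjective hbar
    have hhT : ∀ t : T, ∃ j : ℤ, (h ^ j)⁻¹ * t ∈ K := by
      intro t
      obtain ⟨j, hj⟩ := hh (QuotientGroup.mk t)
      have h1 : (QuotientGroup.mk (h ^ j) : T ⧸ K) = QuotientGroup.mk t := hj
      exact ⟨j, QuotientGroup.eq.1 h1⟩
    have hhQ : h ∉ Q := by
      intro hhQ
      have : Q = ⊤ := by
        rw [eq_top_iff]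
        intro t _
        obtain ⟨j, hj⟩ := hhT t
        have := Q.mul_mem (Q.zpow_mem hhQ j) (hKQ hj)
        rwa [mul_inv_cancel_left] at this
      rw [this, Subgroup.index_top] at hQi
      norm_num at hQi
    have hsq : h ^ 2 ∈ Q := by
      have := Subgroup.sq_mem_of_index_two hQi h
      exact this
    set D : Subgroup T := zpowers (h ^ 2) with hD
    have hDQ : D ≤ Q := zpowers_le.2 hsq
    have hQDK : Q = K ⊔ D := by
      refine le_antisymm (fun q hq => ?_) (sup_le hKQ hDQ)
      obtain ⟨j, hj⟩ := hhT q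
      have hjQ : h ^ j ∈ Q := by
        have := Q.mul_mem hq (Q.inv_mem (hKQ hj))
        have h2 : q * ((h ^ j)⁻¹ * q)⁻¹ = h ^ j := by group
        rwa [h2] at this
      have hje : Even j := by
        by_contra hodd
        rw [Int.not_even_iff_odd] at hodd
        obtain ⟨i, hi⟩ := hodd
        apply hhQ
        have h3 : h = ((h ^ 2) ^ i)⁻¹ * h ^ j := by
          have h6 : h ^ j = (h ^ 2) ^ i * h := by
            rw [hi, zpow_add, zpow_mul, zpow_one]
            norm_cast
          rw [h6, inv_mul_cancel_left]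
        rw [h3]
        exact Q.mul_mem (Q.inv_mem (Q.zpow_mem hsq i)) hjQ
      obtain ⟨i, hi⟩ := hje
      have h4 : h ^ j = (h ^ 2) ^ i := by
        rw [hi, ← two_mul, zpow_mul]
        norm_cast
      have h5 : q = (h ^ j) * ((h ^ j)⁻¹ * q) := by group
      rw [h5]
      refine mul_mem ((le_sup_right : D ≤ _) ?_) ((le_sup_left : K ≤ _) hj)
      rw [h4]
      exact zpow_mem (mem_zpowers _) i
    -- cardinalities
    have hDC : D ≤ Q ⊓ centralizer ({h} : Set T) := by
      refine le_inf hDQ (zpowers_le.2 ?_)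
      rw [mem_centralizer_singleton_iff]
      rw [← pow_succ, ← pow_succ']
    have hDcard : Nat.card D ≤ 2 ^ n := (Nat.card_mono (Set.toFinite _) hDC).trans (hC h hhQ)
    have hKcard : Nat.card K ≤ 2 ^ n := by
      rw [hKa, Nat.card_zpowers]
      exact Nat.le_of_dvd h2n (orderOf_dvd_of_pow_eq_one (hexp a haQ))
    have e1 : Nat.card (K ⊓ D : Subgroup T) * K.relIndex D = Nat.card D := by
      have := Subgroup.relIndex_mul_relIndex ⊥ (K ⊓ D) D bot_le inf_le_right
      rwa [Subgroup.relIndex_bot_left, Subgroup.relIndex_bot_left, Subgroup.inf_relIndex_right]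
        at this
    have e2 : Nat.card K * K.relIndex Q = Nat.card Q := by
      have := Subgroup.relIndex_mul_relIndex ⊥ K Q bot_le hKQ
      rwa [Subgroup.relIndex_bot_left, Subgroup.relIndex_bot_left] at this
    have e3 : K.relIndex Q = K.relIndex D := by
      rw [hQDK, sup_comm, Subgroup.relIndex_sup_right]
    have e4 : Nat.card Q * Nat.card (K ⊓ D : Subgroup T) = Nat.card K * Nat.card D := by
      rw [← e1, ← e2, e3]; ring
    have e5 : 0 < Nat.card (K ⊓ D : Subgroup T) := Nat.card_pos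
    have e6 : Nat.card (K ⊓ D : Subgroup T) = 1 := by
      have h6 : Nat.card K * Nat.card D ≤ 2 ^ n * 2 ^ n := Nat.mul_le_mul hKcard hDcard
      rw [← e4, hcard] at h6
      have h7 : 0 < 2 ^ n * 2 ^ n := by positivity
      nlinarith
    have e7 : Nat.card K * Nat.card D = 2 ^ n * 2 ^ n := by rw [← e4, e6, hcard, mul_one]
    have e8 : Nat.card D = 2 ^ n := by nlinarith
    have e9 : Nat.card K = 2 ^ n := by nlinarith
    have hKD : K ⊓ D = ⊥ := Subgroup.card_eq_one.1 e6
    have hDeq : D = Q ⊓ centralizer ({h} : Set T) :=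
      Subgroup.eq_of_le_of_card_ge hDC (by rw [e8]; exact hC h hhQ)
    -- the involution of `K`
    have hoa : orderOf a = 2 ^ n := by rw [← Nat.card_zpowers, ← hKa, e9]
    set w : T := a ^ (2 ^ (n - 1)) with hw
    have h2n' : 2 ^ n = 2 ^ (n - 1) * 2 := by rw [← pow_succ]; congr 1; omega
    have hwo : orderOf w = 2 := by
      rw [hw, orderOf_pow, hoa, h2n', Nat.gcd_mul_right_left]
      exact Nat.mul_div_cancel_left _ (by positivity)
    have hwK : w ∈ K := K.pow_mem haK _
    have hwc : h * w * h⁻¹ = w := by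
      have h8 : h * w * h⁻¹ ∈ K := hK.conj_mem w hwK h
      have h9 : orderOf (h * w * h⁻¹) = 2 := by
        rw [← hwo]
        exact orderOf_injective (MulAut.conj h).toMonoidHom (MulAut.conj h).injective w
      exact eq_of_orderOf_two K h8 hwK h9 hwo
    have hwD : w ∈ D := by
      rw [hDeq]
      refine ⟨hKQ hwK, ?_⟩
      change w ∈ centralizer ({h} : Set T)
      rw [mem_centralizer_singleton_iff]
      calc w * h = h * w * h⁻¹ * h := by rw [hwc]
        _ = h * w := by group
    have hw1 : w ∈ K ⊓ D := ⟨hwK, hwD⟩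
    rw [hKD, mem_bot] at hw1
    rw [hw1, orderOf_one] at hwo
    norm_num at hwo
  · -- `a` outside `Q`
    have hsq : a * a ∈ Q := Subgroup.mul_self_mem_of_index_two hQi a
    let δ : Q →* T :=
      { toFun := fun q => (q : T)⁻¹ * (a * q * a⁻¹)
        map_one' := by simp
        map_mul' := by
          intro q r
          have h1 : a * (q : T) * a⁻¹ ∈ Q := hQn.conj_mem _ q.2 a
          have h2 : (r : T)⁻¹ * (a * (q : T) * a⁻¹) = (a * (q : T) * a⁻¹) * (r : T)⁻¹ :=
            hab _ (Q.inv_mem r.2) _ h1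
          have h3 : (r : T)⁻¹ * (q : T)⁻¹ = (q : T)⁻¹ * (r : T)⁻¹ :=
            hab _ (Q.inv_mem r.2) _ (Q.inv_mem q.2)
          calc ((q * r : Q) : T)⁻¹ * (a * ((q * r : Q) : T) * a⁻¹)
              = ((r : T)⁻¹ * (q : T)⁻¹) * ((a * q * a⁻¹) * (a * r * a⁻¹)) := by
                push_cast; group
            _ = (q : T)⁻¹ * ((r : T)⁻¹ * (a * q * a⁻¹)) * (a * r * a⁻¹) := by
                rw [h3]; group
            _ = (q : T)⁻¹ * ((a * q * a⁻¹) * (r : T)⁻¹) * (a * r * a⁻¹) := by rw [h2]
            _ = (q : T)⁻¹ * (a * q * a⁻¹) * ((r : T)⁻¹ * (a * r * a⁻¹)) := by group }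
    have hδ : ∀ q : Q, δ q = (q : T)⁻¹ * (a * q * a⁻¹) := fun q => rfl
    have hδK : δ.range ≤ K := by
      rintro _ ⟨q, rfl⟩
      have h1 : δ q = ((q : T)⁻¹ * a * (q : T)⁻¹⁻¹) * a⁻¹ := by rw [hδ]; group
      rw [h1]
      exact K.mul_mem (hK.conj_mem a haK _) (K.inv_mem haK)
    have hKcomm : ∀ x ∈ K, a * x * a⁻¹ = x := by
      intro x hx
      rw [hKa] at hx
      obtain ⟨i, rfl⟩ := hx
      change a * a ^ i * a⁻¹ = a ^ i
      group
    have hδ2 : ∀ q : Q, δ q ^ 2 = 1 := by
      intro q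
      have h1 : a * δ q * a⁻¹ = δ q := hKcomm _ (hδK ⟨q, rfl⟩)
      have h2 : a * δ q * a⁻¹ = (δ q)⁻¹ := by
        rw [hδ]
        have h3 : (a * a) * (q : T) = (q : T) * (a * a) := hab _ hsq _ q.2
        have h4 : a * (a * (q : T) * a⁻¹) * a⁻¹ = q := by
          calc a * (a * (q : T) * a⁻¹) * a⁻¹ = ((a * a) * (q : T)) * (a * a)⁻¹ := by group
            _ = q := by rw [h3]; group
        calc a * ((q : T)⁻¹ * (a * q * a⁻¹)) * a⁻¹
            = (a * (q : T) * a⁻¹)⁻¹ * (a * (a * (q : T) * a⁻¹) * a⁻¹) := by group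
          _ = (a * (q : T) * a⁻¹)⁻¹ * q := by rw [h4]
          _ = ((q : T)⁻¹ * (a * q * a⁻¹))⁻¹ := by group
      rw [pow_two]
      nth_rewrite 1 [← h1]
      rw [h2, inv_mul_cancel]
    have hRcard : Nat.card δ.range ≤ 2 := by
      have hRcyc : IsCyclic δ.range := by
        have : IsCyclic K := hKc
        exact isCyclic_of_injective (Subgroup.inclusion hδK) (Subgroup.inclusion_injective hδK)
      obtain ⟨g, hg⟩ := hRcyc.exists_generator
      rw [← orderOf_eq_card_of_forall_mem_zpowers hg]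
      refine Nat.le_of_dvd (by norm_num) (orderOf_dvd_of_pow_eq_one ?_)
      obtain ⟨q, hq⟩ := g.2
      apply Subtype.ext
      change (g : T) ^ 2 = 1
      rw [← hq]
      exact hδ2 q
    have hker : Nat.card δ.ker ≤ 2 ^ n := by
      refine le_trans ?_ (hC a haQ)
      refine Nat.card_le_card_of_injective
        (fun q : δ.ker => (⟨(q : Q), (q : Q).2, ?_⟩ : (Q ⊓ centralizer ({a} : Set T) : Subgroup T)))
        ?_
      · have h1 : δ (q : Q) = 1 := q.2
        rw [hδ, inv_mul_eq_one] at h1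
        change ((q : Q) : T) ∈ centralizer ({a} : Set T)
        rw [mem_centralizer_singleton_iff]
        nth_rewrite 1 [h1]
        group
      · intro q r h
        have h1 := congrArg Subtype.val h
        exact Subtype.ext (Subtype.ext h1)
    have hc := Subgroup.card_mul_index δ.ker
    rw [Subgroup.index_ker, hcard] at hc
    have h5 : Nat.card δ.ker * Nat.card δ.range ≤ 2 ^ n * 2 := Nat.mul_le_mul hker hRcard
    rw [hc] at h5
    nlinarith

end Cfsg.Agent.H772
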