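import Cfsg.Agent.H772.EssTools
import Cfsg.Agent.H772.MetaTwoC
import Cfsg.Agent.OddOrderLocal.Metacyclic
import Cfsg.Agent.S1896
import Cfsg.Agent.Lib.NormalAbelian

/-!
# Abelian essential subgroups of metacyclic 2-groups (helper772)
-/

set_option autoImplicit false

namespace Cfsg.Agent.H772

open Cfsg Cfsg.FusionSystem Cfsg.Agent.H802

variable {Ω : Type*} [Group Ω] {S : Subgroup Ω}

/-- An automorphism of odd order of a finite abelian 2-group fixing all involutions is trivial. -/
theorem eq_one_of_fix_involutions {Q : Type*} [Group Q] [Finite Q] (hQ : IsPGroup 2 Q)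
    (hab : ∀ a b : Q, a * b = b * a) (α : MulAut Q) (m : ℕ) (hm : Odd m) (hα : α ^ m = 1)
    (hfix : ∀ v : Q, v ^ 2 = 1 → α v = v) : α = 1 := by
  have key : ∀ k : ℕ, ∀ q : Q, q ^ 2 ^ k = 1 → α q = q := by
    intro k
    induction k with
    | zero =>
      intro q hq
      rw [pow_zero, pow_one] at hq
      rw [hq, map_one]
    | succ k ih =>
      intro q hq
      have h1 : α (q ^ 2) = q ^ 2 := by
        apply ih
        rw [← pow_mul, ← pow_succ', hq]
      obtain ⟨v, hv⟩ : ∃ v : Q, v = α q * q⁻¹ := ⟨_, rfl⟩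
      have hcomm : Commute (α q) q⁻¹ := hab _ _
      have hv2 : v ^ 2 = 1 := by
        rw [hv, hcomm.mul_pow, ← map_pow, h1, inv_pow, mul_inv_cancel]
      have hαv : α v = v := hfix v hv2
      have hαq : α q = v * q := by rw [hv]; group
      have hpow : ∀ j : ℕ, (α ^ j) q = v ^ j * q := by
        intro j
        induction j with
        | zero => simp
        | succ j ihj =>
          rw [pow_succ', MulAut.mul_apply, ihj, map_mul, map_pow, hαv, hαq, pow_succ', ← mul_assoc,
            mul_assoc, mul_assoc, ← mul_assoc, ← pow_succ, pow_succ']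
          group
      have h2 := hpow m
      rw [hα, MulAut.one_apply] at h2
      have hvm : v ^ m = 1 := by
        have := h2.symm
        rwa [mul_eq_right] at this
      have hv1 : v = 1 := by
        obtain ⟨i, rfl⟩ := hm
        rw [pow_add, pow_mul, hv2, one_pow, one_mul, pow_one] at hvm
        exact hvm
      rw [hαq, hv1, one_mul]
  ext q
  obtain ⟨k, hk⟩ := hQ q
  exact key k q hk

/-- The automorphisms in `A` fixing all involutions of an abelian 2-group form a 2-group. -/
def fixInv {Q : Subgroup Ω} (A : Subgroup (MulAut Q)) : Subgroup (MulAut Q) where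
  carrier := {α | α ∈ A ∧ ∀ v : Q, v ^ 2 = 1 → α v = v}
  one_mem' := ⟨one_mem _, fun _ _ => rfl⟩
  mul_mem' := by
    rintro α β ⟨hα, hα'⟩ ⟨hβ, hβ'⟩
    refine ⟨mul_mem hα hβ, fun v hv => ?_⟩
    rw [MulAut.mul_apply, hβ' v hv, hα' v hv]
  inv_mem' := by
    rintro α ⟨hα, hα'⟩
    refine ⟨inv_mem hα, fun v hv => ?_⟩
    have h1 := hα' v hv
    have h2 : α⁻¹ (α v) = v := α.symm_apply_apply v
    rwa [h1] at h2

theorem isPGroup_fixInv {Q : Subgroup Ω} [Finite Q] (hQ : IsPGroup 2 Q)
    (hab : ∀ a b : Q, a * b = b * a) (A : Subgroup (MulAut Q)) : IsPGroup 2 (fixInv A) := by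
  rintro ⟨α, hα⟩
  have hfin : 0 < orderOf α := orderOf_pos α
  obtain ⟨k, m, hm, hkm⟩ := Nat.exists_eq_two_pow_mul_odd hfin.ne'
  refine ⟨k, Subtype.ext ?_⟩
  change α ^ 2 ^ k = 1
  refine eq_one_of_fix_involutions hQ hab _ m hm ?_ ((fixInv A).pow_mem hα _).2
  rw [← pow_mul, ← hkm, pow_orderOf_eq_one]

/-- In an essential abelian subgroup of a 2-group, an element of `Aut_F(Q)` fixing all involutions is
trivial. -/
theorem eq_one_of_isEssential [Finite S] (hS : IsPGroup 2 S)
    {F : FusionSystem S} (hF : F.IsSaturated 2) {Q : Subgroup Ω} (hQ : F.IsEssential 2 Q)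
    (hab : ∀ a b : Q, a * b = b * a) {α : MulAut Q} (hα : α ∈ F.autGroup Q)
    (hfix : ∀ v : Q, v ^ 2 = 1 → α v = v) : α = 1 := by
  have hQS := hQ.2.1.1
  have hfinQ : Finite Q := finite_of_le hQS
  have hQp : IsPGroup 2 Q := hS.to_le hQS
  have h1 := le_inn_of_isEssential hS hF hQ (fixInv (F.autGroup Q)) (fun _ h => h.1)
    (isPGroup_fixInv hQp hab _) (fun α hα β hβ => ⟨mul_mem (mul_mem hα hβ.1) (inv_mem hα), ?_⟩)
    (⟨hα, hfix⟩ : α ∈ fixInv (F.autGroup Q))
  · obtain ⟨q, rfl⟩ := h1
    ext x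
    change ((q * x * q⁻¹ : Q) : Ω) = x
    rw [hab q x, mul_inv_cancel_right]
  · intro v hv
    rw [MulAut.mul_apply, MulAut.mul_apply]
    have h2 : (α⁻¹ v) ^ 2 = 1 := by rw [← map_pow, hv, map_one]
    rw [hβ.2 _ h2]
    exact α.apply_symm_apply v

theorem essential_homocyclic_false [Finite S] (hS : IsPGroup 2 S)
    {F : FusionSystem S} (hF : F.IsSaturated 2) (hm : Cfsg.IsMetacyclic S) {Q : Subgroup Ω}
    (hQ : F.IsEssential 2 Q) (hab : ∀ a b : Q, a * b = b * a) (n : ℕ) (hn : 2 ≤ n)
    (hcard : Nat.card Q = 2 ^ n * 2 ^ n) (hexp : ∀ q : Q, q ^ 2 ^ n = 1) : False := by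
  classical
  have hQS := hQ.2.1.1
  have hfinQ : Finite Q := finite_of_le hQS
  have hQp : IsPGroup 2 Q := hS.to_le hQS
  have hC : centralizerIn S Q ≤ Q := hQ.1.2 Q (isConj_refl F hQS)
  have hne := ne_of_isEssential hS hF hQ
  set T := normalizerIn S Q with hT
  have hQT : Q ≤ T := le_normalizerIn hQS
  have hTS : T ≤ S := inf_le_left
  have hfinT : Finite T := finite_of_le hTS
  have hTp : IsPGroup 2 T := hS.to_le hTS
  have hnil : Group.IsNilpotent T := hTp.isNilpotent
  have hQab : ∀ a ∈ Q, ∀ b ∈ Q, a * b = b * a := fun a ha b hb =>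
    congrArg Subtype.val (hab ⟨a, ha⟩ ⟨b, hb⟩)
  have hconjQ : ∀ g ∈ T, ∀ q ∈ Q, g * q * g⁻¹ ∈ Q := fun g hg q hq =>
    (Subgroup.mem_normalizer_iff.1 hg.2 q).1 hq
  -- elements of `T` fixing all involutions of `Q` lie in `Q`
  have hfixQ : ∀ g ∈ T, (∀ v ∈ Q, v ^ 2 = 1 → g * v * g⁻¹ = v) → g ∈ Q := by
    intro g hg hv
    obtain ⟨β, hβ⟩ := exists_conjAut hg.2
    have hβA : β ∈ F.autGroup Q :=
      autInducedBy_le_autGroup F hQS (conj_mem_autInducedBy hg.1 hβ)
    have h1 : β = 1 := by
      refine eq_one_of_isEssential hS hF hQ hab hβA fun v hv2 => ?_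
      apply Subtype.ext
      rw [hβ]
      exact hv v v.2 (by simpa using congrArg Subtype.val hv2)
    apply hC
    refine ⟨hg.1, Subgroup.mem_centralizer_iff.2 fun x hx => ?_⟩
    have h2 := hβ ⟨x, hx⟩
    rw [h1] at h2
    change x = g * x * g⁻¹ at h2
    calc x * g = g * x * g⁻¹ * g := by rw [← h2]
      _ = g * x := by group
  -- the subgroup of involutions
  set V : Subgroup Q :=
    { carrier := {v | v ^ 2 = 1}
      one_mem' := one_pow _
      mul_mem' := by
        intro a b ha hb
        change (a * b) ^ 2 = 1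
        rw [(show Commute a b from hab a b).mul_pow]
        rw [show a ^ 2 = 1 from ha, show b ^ 2 = 1 from hb, one_mul]
      inv_mem' := by
        intro a ha
        change a⁻¹ ^ 2 = 1
        rw [inv_pow, show a ^ 2 = 1 from ha, inv_one] } with hV
  have hVmem : ∀ v : Q, v ∈ V ↔ v ^ 2 = 1 := fun v => Iff.rfl
  have hmQ : Cfsg.IsMetacyclic Q := OddOrderLocal.Metacyclic.isMetacyclic_of_le hm hQS
  have hVcard : Nat.card V ≤ 4 := by
    have hmV : Cfsg.IsMetacyclic V :=
      OddOrderLocal.Metacyclic.isMetacyclic_of_injective V.subtype V.subtype_injective hmQ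
    have h1 := S1896.index_le_four hmV ⊥ (fun x => by
      rw [Subgroup.mem_bot]; exact Subtype.ext ((hVmem _).1 x.2))
    rwa [Subgroup.index_bot] at h1
  -- a central involution `z`
  obtain ⟨z, hzQ, hz2, hz1, hzT⟩ : ∃ z ∈ Q, z ^ 2 = 1 ∧ z ≠ 1 ∧ ∀ g ∈ T, g * z * g⁻¹ = z := by
    set W : Subgroup Ω := V.map Q.subtype with hW
    have hWmem : ∀ w : Ω, w ∈ W ↔ w ∈ Q ∧ w ^ 2 = 1 := by
      intro w
      constructor
      · rintro ⟨v, hv, rfl⟩
        exact ⟨v.2, congrArg Subtype.val hv⟩
      · rintro ⟨hw, hw2⟩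
        exact ⟨⟨w, hw⟩, Subtype.ext hw2, rfl⟩
    have hWn : (W.subgroupOf T).Normal := by
      refine ⟨fun w hw g => ?_⟩
      rw [Subgroup.mem_subgroupOf, hWmem] at hw ⊢
      refine ⟨hconjQ g g.2 _ hw.1, ?_⟩
      have h1 : ((g * w * g⁻¹ : T) : Ω) ^ 2 = g * (w : Ω) ^ 2 * (g : Ω)⁻¹ := by
        push_cast
        rw [pow_two, pow_two]
        group
      rw [h1, hw.2]
      group
    have hWne : W.subgroupOf T ≠ ⊥ := by
      have h2 : (2 : ℕ) ∣ Nat.card Q := by
        rw [hcard]
        exact Dvd.dvd.mul_right (dvd_pow_self 2 (by omega)) _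
      obtain ⟨v, hv⟩ := exists_prime_orderOf_dvd_card' 2 h2
      intro h0
      have h3 : (⟨(v : Ω), hQT v.2⟩ : T) ∈ W.subgroupOf T := by
        rw [Subgroup.mem_subgroupOf, hWmem]
        refine ⟨v.2, ?_⟩
        have : v ^ 2 = 1 := by rw [← hv, pow_orderOf_eq_one]
        exact congrArg Subtype.val this
      rw [h0, Subgroup.mem_bot] at h3
      have h4 : (v : Ω) = 1 := congrArg Subtype.val h3
      have h5 : v = 1 := Subtype.ext h4
      rw [h5, orderOf_one] at hv
      norm_num at hv
    have h1 := Cfsg.Agent.Lib.NormalAbelian.normal_inf_center_ne_bot (W.subgroupOf T) hWne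
    obtain ⟨⟨w, hw⟩, hw1⟩ := Subgroup.ne_bot_iff_exists_ne_one.1 h1
    have hw' := (hWmem w).1 (Subgroup.mem_subgroupOf.1 hw.1)
    refine ⟨w, hw'.1, hw'.2, ?_, fun g hg => ?_⟩
    · intro h2
      apply hw1
      apply Subtype.ext
      exact Subtype.ext h2
    · have h2 : g * (w : Ω) = w * g := congrArg Subtype.val (Subgroup.mem_center_iff.1 hw.2 ⟨g, hg⟩)
      rw [h2, mul_inv_cancel_right]
  -- `T ≠ Q`
  obtain ⟨t, htT, htQ⟩ : ∃ t ∈ T, t ∉ Q := by
    by_contra hcon
    push Not at hcon
    have h1 := card_lt_card_normalizerIn hS hQS hne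
    have h2 : normalizerIn S Q = Q := le_antisymm hcon (le_normalizerIn hQS)
    rw [h2] at h1
    exact lt_irrefl _ h1
  -- another involution
  obtain ⟨x, hxQ, hx2, hx1, hxz⟩ : ∃ x ∈ Q, x ^ 2 = 1 ∧ x ≠ 1 ∧ x ≠ z := by
    by_contra hcon
    push Not at hcon
    apply htQ
    refine hfixQ t htT fun v hv hv2 => ?_
    by_cases hv1 : v = 1
    · rw [hv1]; group
    · rw [hcon v hv hv2 hv1]
      exact hzT t htT
  have hVcases : ∀ v ∈ Q, v ^ 2 = 1 → v = 1 ∨ v = z ∨ v = x ∨ v = z * x := by
    intro v hv hv2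
    by_contra hcon
    push Not at hcon
    obtain ⟨c1, c2, c3, c4⟩ := hcon
    have hzx1 : z * x ≠ 1 := by
      intro h
      apply hxz
      have : x = z⁻¹ := (eq_inv_of_mul_eq_one_right h)
      rw [this, inv_eq_iff_mul_eq_one, ← pow_two, hz2]
    have hzxz : z * x ≠ z := by
      intro h
      exact hx1 (by simpa using h)
    have hzxx : z * x ≠ x := by
      intro h
      exact hz1 (by simpa using h)
    have h1 : ({1, z, x, z * x, v} : Finset Ω).card = 5 := by
      rw [Finset.card_insert_of_notMem, Finset.card_insert_of_notMem,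
        Finset.card_insert_of_notMem, Finset.card_insert_of_notMem, Finset.card_singleton]
      · simp only [Finset.mem_singleton]; exact Ne.symm c4
      · simp only [Finset.mem_insert, Finset.mem_singleton, not_or]
        exact ⟨Ne.symm hzxx, Ne.symm c3⟩
      · simp only [Finset.mem_insert, Finset.mem_singleton, not_or]
        exact ⟨Ne.symm hxz, Ne.symm hzxz, Ne.symm c2⟩
      · simp only [Finset.mem_insert, Finset.mem_singleton, not_or]
        exact ⟨Ne.symm hz1, Ne.symm hx1, Ne.symm hzx1, Ne.symm c1⟩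
    have hzx2 : (z * x) ^ 2 = 1 := by
      rw [(show Commute z x from hQab z hzQ x hxQ).mul_pow, hz2, hx2, one_mul]
    have h2 : (({1, z, x, z * x, v} : Finset Ω) : Set Ω) ⊆ (V.map Q.subtype : Subgroup Ω) := by
      intro w hw
      simp only [Finset.coe_insert, Finset.coe_singleton, Set.mem_insert_iff,
        Set.mem_singleton_iff] at hw
      have h3 : w ∈ Q ∧ w ^ 2 = 1 := by
        rcases hw with rfl | rfl | rfl | rfl | rfl
        · exact ⟨one_mem _, one_pow _⟩
        · exact ⟨hzQ, hz2⟩
        · exact ⟨hxQ, hx2⟩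
        · exact ⟨mul_mem hzQ hxQ, hzx2⟩
        · exact ⟨hv, hv2⟩
      exact ⟨⟨w, h3.1⟩, Subtype.ext h3.2, rfl⟩
    have hfinW : Finite (V.map Q.subtype : Subgroup Ω) :=
      finite_of_le ((Subgroup.map_subtype_le V).trans hQS)
    have h3 := Set.ncard_le_ncard h2 (Set.toFinite _)
    rw [Set.ncard_coe_finset, h1] at h3
    have h4 : Set.ncard ((V.map Q.subtype : Subgroup Ω) : Set Ω) = Nat.card V := by
      rw [← Nat.card_coe_set_eq]
      exact (Nat.card_congr (V.equivMapOfInjective Q.subtype Q.subtype_injective).toEquiv).symm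
    rw [h4] at h3
    omega
  -- elements of `T` outside `Q` interchange `x` and `z x`
  have hswap : ∀ g ∈ T, g ∉ Q → g * x * g⁻¹ = z * x := by
    intro g hg hgQ
    have h1 := hconjQ g hg x hxQ
    have h2 : (g * x * g⁻¹) ^ 2 = 1 := by
      have : (g * x * g⁻¹) ^ 2 = g * x ^ 2 * g⁻¹ := by rw [pow_two, pow_two]; group
      rw [this, hx2]; group
    rcases hVcases _ h1 h2 with h | h | h | h
    · exfalso
      apply hx1
      have : x = g⁻¹ * (g * x * g⁻¹) * g := by group
      rw [this, h]; group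
    · exfalso
      apply hxz
      have h3 : g * x * g⁻¹ = g * z * g⁻¹ := by rw [h, hzT g hg]
      exact mul_left_cancel (mul_right_cancel h3)
    · exfalso
      apply hgQ
      refine hfixQ g hg fun v hv hv2 => ?_
      rcases hVcases v hv hv2 with rfl | rfl | rfl | rfl
      · group
      · exact hzT g hg
      · exact h
      · have : g * (z * x) * g⁻¹ = (g * z * g⁻¹) * (g * x * g⁻¹) := by group
        rw [this, hzT g hg, h]
    · exact h
  -- `|T : Q| = 2`
  have hindex : (Q.subgroupOf T).index = 2 := by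
    rw [Subgroup.index_eq_two_iff]
    refine ⟨⟨t, htT⟩, fun b => ?_⟩
    rw [Subgroup.mem_subgroupOf, Subgroup.mem_subgroupOf]
    by_cases hb : (b : Ω) ∈ Q
    · right
      refine ⟨hb, fun h => htQ ?_⟩
      have : t = (b : Ω)⁻¹ * ((b * ⟨t, htT⟩ : T) : Ω) := by push_cast; group
      rw [this]
      exact mul_mem (inv_mem hb) h
    · left
      refine ⟨?_, hb⟩
      refine hfixQ _ (T.mul_mem b.2 htT) fun v hv hv2 => ?_
      have e1 : ∀ u : Ω, ((b * ⟨t, htT⟩ : T) : Ω) * u * ((b * ⟨t, htT⟩ : T) : Ω)⁻¹ =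
          (b : Ω) * (t * u * t⁻¹) * (b : Ω)⁻¹ := by
        intro u; push_cast; group
      have e2 : ((b * ⟨t, htT⟩ : T) : Ω) * x * ((b * ⟨t, htT⟩ : T) : Ω)⁻¹ = x := by
        rw [e1, hswap t htT htQ]
        have : (b : Ω) * (z * x) * (b : Ω)⁻¹ = (b * z * (b : Ω)⁻¹) * (b * x * (b : Ω)⁻¹) := by group
        rw [this, hzT b b.2, hswap b b.2 hb, ← mul_assoc, ← pow_two, hz2, one_mul]
      have e3 : ((b * ⟨t, htT⟩ : T) : Ω) * z * ((b * ⟨t, htT⟩ : T) : Ω)⁻¹ = z :=
        hzT _ (T.mul_mem b.2 htT)
      rcases hVcases v hv hv2 with rfl | rfl | rfl | rfl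
      · group
      · exact e3
      · exact e2
      · have : ((b * ⟨t, htT⟩ : T) : Ω) * (z * x) * ((b * ⟨t, htT⟩ : T) : Ω)⁻¹ =
            (((b * ⟨t, htT⟩ : T) : Ω) * z * ((b * ⟨t, htT⟩ : T) : Ω)⁻¹) *
            (((b * ⟨t, htT⟩ : T) : Ω) * x * ((b * ⟨t, htT⟩ : T) : Ω)⁻¹) := by group
        rw [this, e2, e3]
  -- fixed points
  have hfixed : ∀ h ∈ T, h ∉ Q →
      Nat.card (Q ⊓ Subgroup.centralizer ({h} : Set Ω) : Subgroup Ω) ≤ 2 ^ n := by
    intro h hhT hhQ
    obtain ⟨β, hβ⟩ := exists_conjAut hhT.2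
    obtain ⟨α, hα, hnot⟩ := exists_not_conj_of_isEssential hS hF hQ hhT.1 hhQ hβ
    have hβA : β ∈ F.autGroup Q :=
      autInducedBy_le_autGroup F hQS (conj_mem_autInducedBy hhT.1 hβ)
    set zQ : Q := ⟨z, hzQ⟩ with hzQdef
    set xQ : Q := ⟨x, hxQ⟩ with hxQdef
    have hzQ2 : zQ ^ 2 = 1 := Subtype.ext hz2
    have hxQ2 : xQ ^ 2 = 1 := Subtype.ext hx2
    have hβz : β zQ = zQ := Subtype.ext (by rw [hβ]; exact hzT h hhT)
    have hβx : β xQ = zQ * xQ := Subtype.ext (by rw [hβ]; exact hswap h hhT hhQ)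
    have hVQ : ∀ v : Q, v ^ 2 = 1 → v = 1 ∨ v = zQ ∨ v = xQ ∨ v = zQ * xQ := by
      intro v hv
      rcases hVcases v v.2 (congrArg Subtype.val hv) with h | h | h | h
      · left; exact Subtype.ext h
      · right; left; exact Subtype.ext h
      · right; right; left; exact Subtype.ext h
      · right; right; right; exact Subtype.ext h
    set γ : MulAut Q := α * β * α⁻¹ with hγ
    have hγA : γ ∈ F.autGroup Q := mul_mem (mul_mem hα hβA) (inv_mem hα)
    have hαinv : ∀ q : Q, α (α⁻¹ q) = q := fun q => α.apply_symm_apply q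
    have hinvα : ∀ q : Q, α⁻¹ (α q) = q := fun q => α.symm_apply_apply q
    have hαz : α zQ ≠ zQ := by
      intro hαz
      apply hnot
      have hγz : γ zQ = zQ := by
        have h1 : α⁻¹ zQ = zQ := by rw [← hαz, hinvα, hαz]
        rw [hγ, MulAut.mul_apply, MulAut.mul_apply, h1, hβz, hαz]
      have hγx : γ xQ = zQ * xQ := by
        have h2 : (γ xQ) ^ 2 = 1 := by rw [← map_pow, hxQ2, map_one]
        rcases hVQ _ h2 with h | h | h | h
        · exfalso
          apply hx1
          have : xQ = 1 := γ.injective (by rw [h, map_one])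
          exact congrArg Subtype.val this
        · exfalso
          apply hxz
          have : xQ = zQ := γ.injective (by rw [h, hγz])
          exact congrArg Subtype.val this
        · exfalso
          have h3 : γ = 1 := by
            refine eq_one_of_isEssential hS hF hQ hab hγA fun v hv => ?_
            rcases hVQ v hv with rfl | rfl | rfl | rfl
            · exact map_one _
            · exact hγz
            · exact h
            · rw [map_mul, hγz, h]
          have h4 : β = 1 := by
            have : β = α⁻¹ * γ * α := by rw [hγ]; group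
            rw [this, h3]; group
          rw [h4] at hβx
          have h5 : zQ = 1 := by
            have h6 : xQ = zQ * xQ := hβx
            exact (mul_eq_right.1 h6.symm)
          exact hz1 (congrArg Subtype.val h5)
        · exact h
      have h3 : β⁻¹ * γ = 1 := by
        refine eq_one_of_isEssential hS hF hQ hab (mul_mem (inv_mem hβA) hγA) fun v hv => ?_
        have h4 : γ v = β v := by
          rcases hVQ v hv with rfl | rfl | rfl | rfl
          · rw [map_one, map_one]
          · rw [hγz, hβz]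
          · rw [hγx, hβx]
          · rw [map_mul, map_mul, hγz, hγx, hβz, hβx]
        rw [MulAut.mul_apply, h4]
        exact β.symm_apply_apply v
      have h5 : γ = β := by
        have : γ = β * (β⁻¹ * γ) := by group
        rw [this, h3, mul_one]
      rw [h5]
      exact conj_mem_autInducedBy hhT.1 hβ
    -- the fixed point subgroups
    set C : Subgroup Q :=
      { carrier := {q | β q = q}
        one_mem' := map_one β
        mul_mem' := by
          intro a b ha hb
          change β (a * b) = a * b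
          rw [map_mul, show β a = a from ha, show β b = b from hb]
        inv_mem' := by
          intro a ha
          change β a⁻¹ = a⁻¹
          rw [map_inv, show β a = a from ha] } with hCdef
    have hdisj : Disjoint C (C.map α.toMonoidHom) := by
      rw [disjoint_iff]
      by_contra hne'
      obtain ⟨⟨q, hq1, hq2⟩, hq⟩ := Subgroup.ne_bot_iff_exists_ne_one.1 hne'
      have hqne : q ≠ 1 := fun h => hq (Subtype.ext h)
      -- an involution in the group generated by `q`
      obtain ⟨k, hk⟩ := (IsPGroup.iff_orderOf.1 hQp) q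
      have hk0 : k ≠ 0 := by
        rintro rfl
        rw [pow_zero, orderOf_eq_one_iff] at hk
        exact hqne hk
      set v : Q := q ^ 2 ^ (k - 1) with hv
      have hvo : orderOf v = 2 := by
        have h2 : 2 ^ k = 2 ^ (k - 1) * 2 := by rw [← pow_succ]; congr 1; omega
        rw [hv, orderOf_pow, hk, h2, Nat.gcd_mul_right_left]
        exact Nat.mul_div_cancel_left _ (by positivity)
      have hv2 : v ^ 2 = 1 := by rw [← hvo, pow_orderOf_eq_one]
      have hv1 : v ≠ 1 := by
        intro h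
        rw [h, orderOf_one] at hvo
        norm_num at hvo
      have hvfix : ∀ u : Q, u ^ 2 = 1 → u ≠ 1 → β u = u → u = zQ := by
        intro u hu2 hu1 hu
        rcases hVQ u hu2 with h | h | h | h
        · exact absurd h hu1
        · exact h
        · exfalso
          rw [h, hβx] at hu
          exact hz1 (congrArg Subtype.val (mul_eq_right.1 hu))
        · exfalso
          rw [h, map_mul, hβz, hβx] at hu
          have h6 := mul_left_cancel hu
          exact hz1 (congrArg Subtype.val (mul_eq_right.1 h6))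
      have hvC : β v = v := (C.pow_mem hq1 _ : q ^ 2 ^ (k - 1) ∈ C)
      have hvz := hvfix v hv2 hv1 hvC
      obtain ⟨u, hu, huv⟩ := ((C.map α.toMonoidHom).pow_mem hq2 (2 ^ (k - 1)))
      have huv' : α u = v := huv
      have hu2 : u ^ 2 = 1 := by
        apply α.injective
        rw [map_pow, huv', hv2, map_one]
      have hu1 : u ≠ 1 := by
        rintro rfl
        rw [map_one] at huv'
        exact hv1 huv'.symm
      have huz := hvfix u hu2 hu1 hu
      apply hαz
      rw [← huz, huv', hvz, huz]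
    have hcards : Nat.card C * Nat.card C ≤ Nat.card Q := by
      have h1 := Subgroup.mul_injective_of_disjoint hdisj
      have h2 := Nat.card_le_card_of_injective _ h1
      rw [Nat.card_prod] at h2
      have h3 : Nat.card (C.map α.toMonoidHom) = Nat.card C :=
        (Nat.card_congr (C.equivMapOfInjective α.toMonoidHom α.injective).toEquiv).symm
      rwa [h3] at h2
    have hCle : Nat.card C ≤ 2 ^ n := by
      rw [hcard] at hcards
      exact Nat.mul_self_le_mul_self_iff.1 hcards
    refine le_trans ?_ hCle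
    have hfinC : Finite C := inferInstance
    refine Nat.card_le_card_of_injective
      (fun q : (Q ⊓ Subgroup.centralizer ({h} : Set Ω) : Subgroup Ω) =>
        (⟨⟨q, q.2.1⟩, ?_⟩ : C)) ?_
    · change β ⟨q, q.2.1⟩ = ⟨q, q.2.1⟩
      apply Subtype.ext
      rw [hβ]
      have h1 : (q : Ω) * h = h * q := Subgroup.mem_centralizer_singleton_iff.1 q.2.2
      change h * (q : Ω) * h⁻¹ = q
      rw [← h1, mul_inv_cancel_right]
    · intro a b hab'
      have h1 := congrArg Subtype.val (congrArg Subtype.val hab')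
      exact Subtype.ext h1
  -- conclusion
  have hmT : Cfsg.IsMetacyclic T := OddOrderLocal.Metacyclic.isMetacyclic_of_le hm hTS
  refine no_homocyclic hmT (Q.subgroupOf T) hindex ?_ n hn ?_ ?_ ?_
  · intro a ha b hb
    exact Subtype.ext (hQab a ha b hb)
  · rw [Nat.card_congr (Subgroup.subgroupOfEquivOfLe hQT).toEquiv, hcard]
  · intro q hq
    apply Subtype.ext
    have := congrArg Subtype.val (hexp ⟨q, hq⟩)
    simpa using this
  · intro h hhQ
    refine le_trans ?_ (hfixed h h.2 hhQ)
    have hfin1 : Finite (Q ⊓ Subgroup.centralizer ({(h : Ω)} : Set Ω) : Subgroup Ω) :=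
      finite_of_le (inf_le_left.trans hQS)
    refine Nat.card_le_card_of_injective
      (fun q : (Q.subgroupOf T ⊓ Subgroup.centralizer ({h} : Set T) : Subgroup T) =>
        (⟨(q : T), q.2.1, ?_⟩ : (Q ⊓ Subgroup.centralizer ({(h : Ω)} : Set Ω) : Subgroup Ω))) ?_
    · have h1 : (q : T) * h = h * q := Subgroup.mem_centralizer_singleton_iff.1 q.2.2
      exact Subgroup.mem_centralizer_singleton_iff.2 (congrArg Subtype.val h1)
    · intro a b hab'
      have h1 := congrArg Subtype.val hab'
      exact Subtype.ext (Subtype.ext h1)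

end Cfsg.Agent.H772
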