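import Mathlib

/-!
# The 7-part of the orders of the classical groups (helper772)
-/

set_option autoImplicit false

namespace Cfsg.Agent.H772.SevenNT

open Finset

theorem pow_card_dvd {f : ℕ → ℕ} {m : ℕ} (S : Finset ℕ) (hS : S ⊆ range m) (h : ∀ j ∈ S, 7 ∣ f j) :
    7 ^ S.card ∣ ∏ j ∈ range m, f j := by
  rw [← Finset.prod_const]
  exact (Finset.prod_dvd_prod_of_dvd _ _ h).trans (Finset.prod_dvd_prod_of_subset _ _ _ hS)

theorem pow_six {q : ℕ} (hq : ¬ 7 ∣ q) (k : ℕ) : q ^ (6 * k) ≡ 1 [MOD 7] := by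
  have h1 : Nat.Coprime q 7 := ((Nat.Prime.coprime_iff_not_dvd (by norm_num)).2 hq).symm
  have h2 := Nat.ModEq.pow_totient h1
  rw [show Nat.totient 7 = 6 by decide] at h2
  have h3 := h2.pow k
  rwa [← pow_mul, one_pow] at h3

theorem dvd_six {q : ℕ} (hq : ¬ 7 ∣ q) (k : ℕ) : 7 ∣ q ^ (6 * k) - 1 := by
  have h0 : 0 < q := by
    rcases Nat.eq_zero_or_pos q with h | h
    · exact absurd (h ▸ dvd_zero 7) hq
    · exact h
  exact (Nat.modEq_iff_dvd' (Nat.one_le_pow _ _ h0)).1 (pow_six hq k).symm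

theorem dvd_of_sub_one {q : ℕ} (h0 : 0 < q) (hq : 7 ∣ q - 1) (k : ℕ) : 7 ∣ q ^ k - 1 := by
  have h1 : 1 ≡ q [MOD 7] := (Nat.modEq_iff_dvd' h0).2 hq
  have h2 := h1.pow k
  rw [one_pow] at h2
  exact (Nat.modEq_iff_dvd' (Nat.one_le_pow _ _ h0)).1 h2

/-! ### linear groups -/

theorem psl_dvd {q n c : ℕ} (h0 : 2 ≤ q) (hn : 2 ≤ n)
    (h : Nat.gcd n (q - 1) * ((q - 1) * c) = ∏ i : Fin n, (q ^ n - q ^ (i : ℕ))) :
    ∏ j ∈ range (n - 2), (q ^ (j + 3) - 1) ∣ c := by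
  obtain ⟨m, rfl⟩ : ∃ m, n = m + 2 := ⟨n - 2, by omega⟩
  rw [Fin.prod_univ_eq_prod_range (fun i => q ^ (m + 2) - q ^ i) (m + 2),
    ← Finset.prod_range_reflect] at h
  have h1 : ∏ j ∈ range (m + 2), (q ^ (m + 2) - q ^ (m + 2 - 1 - j)) =
      (∏ j ∈ range (m + 2), q ^ (m + 2 - 1 - j)) * ∏ j ∈ range (m + 2), (q ^ (j + 1) - 1) := by
    rw [← Finset.prod_mul_distrib]
    refine Finset.prod_congr rfl fun j hj => ?_
    rw [mem_range] at hj
    rw [Nat.mul_sub, mul_one, ← pow_add]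
    congr 2
    omega
  rw [h1, Finset.prod_range_succ' (fun j => q ^ (j + 1) - 1) (m + 1),
    Finset.prod_range_succ' (fun j => q ^ (j + 1 + 1) - 1) m] at h
  obtain ⟨k, hk⟩ : Nat.gcd (m + 2) (q - 1) * (q - 1) ∣ (q ^ (0 + 1 + 1) - 1) * (q ^ (0 + 1) - 1) := by
    rw [zero_add, pow_one]
    refine Nat.mul_dvd_mul ((Nat.gcd_dvd_right _ _).trans ?_) dvd_rfl
    have := Nat.sub_dvd_pow_sub_pow q 1 2
    rwa [one_pow] at this
  have hG : 0 < Nat.gcd (m + 2) (q - 1) * (q - 1) :=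
    Nat.mul_pos (Nat.gcd_pos_of_pos_left _ (by omega)) (by omega)
  have h2 : Nat.gcd (m + 2) (q - 1) * (q - 1) * c = Nat.gcd (m + 2) (q - 1) * (q - 1) *
      ((∏ j ∈ range m, (q ^ (j + 1 + 1 + 1) - 1)) * (k * ∏ j ∈ range (m + 2), q ^ (m + 2 - 1 - j))) := by
    rw [mul_assoc, h]
    calc _ = (∏ j ∈ range (m + 2), q ^ (m + 2 - 1 - j)) * (∏ j ∈ range m, (q ^ (j + 1 + 1 + 1) - 1)) *
          ((q ^ (0 + 1 + 1) - 1) * (q ^ (0 + 1) - 1)) := by ring
      _ = _ := by rw [hk]; ring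
  have h3 := Nat.eq_of_mul_eq_mul_left hG h2
  rw [h3]
  exact Dvd.intro _ rfl

theorem psl_seven {q n c : ℕ} (h0 : 2 ≤ q) (hq : ¬ 7 ∣ q) (hn : 42 ≤ n ∨ (7 ∣ q - 1 ∧ 18 ≤ n))
    (h : Nat.gcd n (q - 1) * ((q - 1) * c) = ∏ i : Fin n, (q ^ n - q ^ (i : ℕ))) : 7 ^ 7 ∣ c := by
  refine dvd_trans ?_ (psl_dvd h0 (by omega) h)
  rcases hn with hn | ⟨h7, hn⟩
  · refine pow_card_dvd {3, 9, 15, 21, 27, 33, 39} ?_ ?_
    · intro j hj
      simp only [mem_insert, mem_singleton] at hj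
      rw [mem_range]
      omega
    · intro j hj
      simp only [mem_insert, mem_singleton] at hj
      rcases hj with rfl | rfl | rfl | rfl | rfl | rfl | rfl
      · exact dvd_six hq 1
      · exact dvd_six hq 2
      · exact dvd_six hq 3
      · exact dvd_six hq 4
      · exact dvd_six hq 5
      · exact dvd_six hq 6
      · exact dvd_six hq 7
  · refine pow_card_dvd (range 7) ?_ ?_
    · intro j hj
      rw [mem_range] at hj ⊢
      omega
    · intro j _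
      exact dvd_of_sub_one (by omega) h7 _

/-! ### unitary groups -/

theorem psu_dvd {q n c : ℕ} (h0 : 2 ≤ q) (hn : 2 ≤ n)
    (h : Nat.gcd n (q + 1) * ((q + 1) * c) = q ^ (n * (n - 1) / 2) *
      ∏ i ∈ range n, (if Even i then q ^ (i + 1) + 1 else q ^ (i + 1) - 1)) :
    ∏ j ∈ range (n - 2), (if Even j then q ^ (j + 3) + 1 else q ^ (j + 3) - 1) ∣ c := by
  obtain ⟨m, rfl⟩ : ∃ m, n = m + 2 := ⟨n - 2, by omega⟩
  rw [Finset.prod_range_succ' _ (m + 1), Finset.prod_range_succ'] at h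
  have e0 : (if Even 0 then q ^ (0 + 1) + 1 else q ^ (0 + 1) - 1) = q + 1 := by simp
  have e1 : (if Even (0 + 1) then q ^ (0 + 1 + 1) + 1 else q ^ (0 + 1 + 1) - 1) = q ^ 2 - 1 := by simp
  rw [e0, e1] at h
  obtain ⟨k, hk⟩ : Nat.gcd (m + 2) (q + 1) * (q + 1) ∣ (q ^ 2 - 1) * (q + 1) := by
    refine Nat.mul_dvd_mul ((Nat.gcd_dvd_right _ _).trans ?_) dvd_rfl
    rw [show q ^ 2 - 1 = (q + 1) * (q - 1) by
      have := Nat.sq_sub_sq q 1
      rwa [one_pow] at this]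
    exact Dvd.intro _ rfl
  have hG : 0 < Nat.gcd (m + 2) (q + 1) * (q + 1) :=
    Nat.mul_pos (Nat.gcd_pos_of_pos_left _ (by omega)) (by omega)
  have h2 : Nat.gcd (m + 2) (q + 1) * (q + 1) * c = Nat.gcd (m + 2) (q + 1) * (q + 1) *
      ((∏ j ∈ range m, (if Even (j + 1 + 1) then q ^ (j + 1 + 1 + 1) + 1 else q ^ (j + 1 + 1 + 1) - 1)) *
        (k * q ^ ((m + 2) * (m + 2 - 1) / 2))) := by
    rw [mul_assoc, h]
    calc _ = q ^ ((m + 2) * (m + 2 - 1) / 2) *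
          (∏ j ∈ range m, (if Even (j + 1 + 1) then q ^ (j + 1 + 1 + 1) + 1 else q ^ (j + 1 + 1 + 1) - 1)) *
          ((q ^ 2 - 1) * (q + 1)) := by ring
      _ = _ := by rw [hk]; ring
  have h3 := Nat.eq_of_mul_eq_mul_left hG h2
  rw [h3]
  have h4 : ∏ j ∈ range (m + 2 - 2), (if Even j then q ^ (j + 3) + 1 else q ^ (j + 3) - 1) =
      ∏ j ∈ range m, (if Even (j + 1 + 1) then q ^ (j + 1 + 1 + 1) + 1 else q ^ (j + 1 + 1 + 1) - 1) := by
    refine Finset.prod_congr rfl fun j _ => ?_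
    have h5 : Even (j + 1 + 1) ↔ Even j := by
      rw [show j + 1 + 1 = j + 2 by ring, Nat.even_add]
      simp
    simp only [h5]
  rw [h4]
  exact Dvd.intro _ rfl

theorem psu_seven {q n c : ℕ} (h0 : 2 ≤ q) (hq : ¬ 7 ∣ q) (hn : 42 ≤ n ∨ (7 ∣ q + 1 ∧ 18 ≤ n))
    (h : Nat.gcd n (q + 1) * ((q + 1) * c) = q ^ (n * (n - 1) / 2) *
      ∏ i ∈ range n, (if Even i then q ^ (i + 1) + 1 else q ^ (i + 1) - 1)) : 7 ^ 7 ∣ c := by
  refine dvd_trans ?_ (psu_dvd h0 (by omega) h)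
  rcases hn with hn | ⟨h7, hn⟩
  · refine pow_card_dvd {3, 9, 15, 21, 27, 33, 39} ?_ ?_
    · intro j hj
      simp only [mem_insert, mem_singleton] at hj
      rw [mem_range]
      omega
    · intro j hj
      simp only [mem_insert, mem_singleton] at hj
      rcases hj with rfl | rfl | rfl | rfl | rfl | rfl | rfl
      · rw [if_neg (by decide)]; exact dvd_six hq 1
      · rw [if_neg (by decide)]; exact dvd_six hq 2
      · rw [if_neg (by decide)]; exact dvd_six hq 3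
      · rw [if_neg (by decide)]; exact dvd_six hq 4
      · rw [if_neg (by decide)]; exact dvd_six hq 5
      · rw [if_neg (by decide)]; exact dvd_six hq 6
      · rw [if_neg (by decide)]; exact dvd_six hq 7
  · refine pow_card_dvd (range 7) ?_ ?_
    · intro j hj
      rw [mem_range] at hj ⊢
      omega
    · intro j _
      refine h7.trans ?_
      split_ifs with he
      · have h1 : Odd (j + 3) := by
          obtain ⟨t, rfl⟩ := he
          exact ⟨t + 1, by ring⟩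
        have := h1.nat_add_dvd_pow_add_pow q 1
        rwa [one_pow] at this
      · obtain ⟨t, ht⟩ := Nat.not_even_iff_odd.1 he
        have h1 : j + 3 = 2 * (t + 2) := by omega
        rw [h1, pow_mul]
        have h2 : q + 1 ∣ q ^ 2 - 1 := by
          rw [show q ^ 2 - 1 = (q + 1) * (q - 1) by
            have := Nat.sq_sub_sq q 1
            rwa [one_pow] at this]
          exact Dvd.intro _ rfl
        refine h2.trans ?_
        have := Nat.sub_dvd_pow_sub_pow (q ^ 2) 1 (t + 2)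
        rwa [one_pow] at this

/-! ### symplectic and orthogonal groups -/

theorem sp_seven {q m : ℕ} (hq : ¬ 7 ∣ q) (hm : 21 ≤ m) : 7 ^ 7 ∣ ∏ i ∈ range m, (q ^ (2 * (i + 1)) - 1) := by
  refine pow_card_dvd {2, 5, 8, 11, 14, 17, 20} ?_ ?_
  · intro j hj
    simp only [mem_insert, mem_singleton] at hj
    rw [mem_range]
    omega
  · intro j hj
    simp only [mem_insert, mem_singleton] at hj
    rcases hj with rfl | rfl | rfl | rfl | rfl | rfl | rfl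
    · exact dvd_six hq 1
    · exact dvd_six hq 2
    · exact dvd_six hq 3
    · exact dvd_six hq 4
    · exact dvd_six hq 5
    · exact dvd_six hq 6
    · exact dvd_six hq 7

theorem coprime_gcd_of_dvd {a b : ℕ} (h : a ∣ 4) : Nat.Coprime (7 ^ 7) (Nat.gcd a b) :=
  Nat.Coprime.pow_left 7 (Nat.Coprime.coprime_dvd_right ((Nat.gcd_dvd_left _ _).trans h) (by norm_num))

theorem psp_seven {q m c : ℕ} (hq : ¬ 7 ∣ q) (hm : 21 ≤ m)
    (h : Nat.gcd 2 (q - 1) * c = q ^ (m ^ 2) * ∏ i ∈ range m, (q ^ (2 * (i + 1)) - 1)) : 7 ^ 7 ∣ c := by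
  have h1 : 7 ^ 7 ∣ Nat.gcd 2 (q - 1) * c := by
    rw [h]
    exact Dvd.dvd.mul_left (sp_seven hq hm) _
  exact (coprime_gcd_of_dvd (by norm_num)).dvd_of_dvd_mul_left h1

theorem odd_seven {q m c : ℕ} (hq : ¬ 7 ∣ q) (hm : 21 ≤ m)
    (h : 2 * c = q ^ (m ^ 2) * ∏ i ∈ range m, (q ^ (2 * (i + 1)) - 1)) : 7 ^ 7 ∣ c := by
  have h1 : 7 ^ 7 ∣ 2 * c := by
    rw [h]
    exact Dvd.dvd.mul_left (sp_seven hq hm) _
  exact (Nat.Coprime.pow_left 7 (by norm_num : Nat.Coprime 7 2)).dvd_of_dvd_mul_left h1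

theorem even_seven {q m c A e f : ℕ} (hq : ¬ 7 ∣ q) (hm : 22 ≤ m)
    (h : Nat.gcd 4 A * c = e * f * ∏ i ∈ range (m - 1), (q ^ (2 * (i + 1)) - 1)) : 7 ^ 7 ∣ c := by
  have h1 : 7 ^ 7 ∣ Nat.gcd 4 A * c := by
    rw [h]
    exact Dvd.dvd.mul_left (sp_seven hq (by omega)) _
  exact (coprime_gcd_of_dvd (by norm_num)).dvd_of_dvd_mul_left h1

end Cfsg.Agent.H772.SevenNT
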