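import Cfsg.Agent.H772.EssExc
import Cfsg.Agent.H772.SevenNT
import Cfsg.Agent.S0243
import Cfsg.Agent.S0245
import Cfsg.Agent.S0246
import Cfsg.Agent.S0280
import Cfsg.Agent.S0292
import Cfsg.Agent.S0293
import Cfsg.Agent.S0294

/-!
# `7^{1+4}` with a rational centre is not contained in a classical group of characteristic different from 7 and 7-part at
most `7^6` (helper772)
-/

set_option autoImplicit false

namespace Cfsg.Agent.H772

open Cfsg Subgroup

universe u v

namespace Ess

/-- quotients by a centre of order prime to 7 -/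
theorem of_quo {H : Type*} [Group H] (S : Ess (H ⧸ center H)) {m : ℕ} (hm : Nat.Coprime 7 m)
    (hk : ∀ k ∈ center H, k ^ m = 1) : Nonempty (Ess H) := by
  obtain ⟨S', -⟩ := S.lift (π := QuotientGroup.mk' (center H)) (QuotientGroup.mk'_surjective _) (m := m)
    (fun k hk g => (mem_center_iff.1 ((QuotientGroup.eq_one_iff k).1 hk) g).symm) hm
    (fun k hk' => hk k ((QuotientGroup.eq_one_iff k).1 hk'))
  exact ⟨S'⟩

/-- conjugation on matrices -/
theorem adj {H : Type*} [Group H] {K : Type*} [Field K] (h7 : (7 : K) ≠ 0) {n : ℕ} (f : H →* GL (Fin n) K)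
    (hc : ∀ h, h ∈ center H ↔ ∀ M : Matrix (Fin n) (Fin n) K, (f h : Matrix (Fin n) (Fin n) K) * M = M * f h)
    (S : Ess (H ⧸ center H)) : 294 ≤ n * n := by
  let ρ₀ : H →* Module.End K (Matrix (Fin n) (Fin n) K) :=
    { toFun := fun h =>
        { toFun := fun M => (f h : Matrix (Fin n) (Fin n) K) * M * (f h⁻¹ : GL (Fin n) K)
          map_add' := fun M N => by rw [Matrix.mul_add, Matrix.add_mul]
          map_smul' := fun c M => by
            rw [Matrix.mul_smul, Matrix.smul_mul]
            rfl }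
      map_one' := by
        apply LinearMap.ext
        intro M
        show (f 1 : Matrix (Fin n) (Fin n) K) * M * (f 1⁻¹ : GL (Fin n) K) = M
        rw [inv_one, map_one, Units.val_one, one_mul, mul_one]
      map_mul' := fun g h => by
        apply LinearMap.ext
        intro M
        show (f (g * h) : Matrix (Fin n) (Fin n) K) * M * (f (g * h)⁻¹ : GL (Fin n) K) =
          (f g : Matrix (Fin n) (Fin n) K) * ((f h : Matrix (Fin n) (Fin n) K) * M * (f h⁻¹ : GL (Fin n) K)) *
            (f g⁻¹ : GL (Fin n) K)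
        rw [mul_inv_rev, map_mul, map_mul, Units.val_mul, Units.val_mul]
        simp only [mul_assoc] }
  have hρ : ∀ h, ρ₀ h = 1 ↔ h ∈ center H := by
    intro h
    rw [hc]
    have hinv : (f h⁻¹ : Matrix (Fin n) (Fin n) K) * (f h : Matrix (Fin n) (Fin n) K) = 1 := by
      rw [← Units.val_mul, ← map_mul, inv_mul_cancel, map_one, Units.val_one]
    have hinv' : (f h : Matrix (Fin n) (Fin n) K) * (f h⁻¹ : Matrix (Fin n) (Fin n) K) = 1 := by
      rw [← Units.val_mul, ← map_mul, mul_inv_cancel, map_one, Units.val_one]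
    constructor
    · intro h1 M
      have h2 : (f h : Matrix (Fin n) (Fin n) K) * M * (f h⁻¹ : GL (Fin n) K) = M := LinearMap.congr_fun h1 M
      calc (f h : Matrix (Fin n) (Fin n) K) * M =
          (f h : Matrix (Fin n) (Fin n) K) * M * (f h⁻¹ : GL (Fin n) K) * f h := by
            rw [mul_assoc _ (f h⁻¹ : Matrix (Fin n) (Fin n) K), hinv, mul_one]
        _ = M * f h := by rw [h2]
    · intro h1
      apply LinearMap.ext
      intro M
      show (f h : Matrix (Fin n) (Fin n) K) * M * (f h⁻¹ : GL (Fin n) K) = M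
      rw [h1, mul_assoc, hinv', mul_one]
  let ρ : H ⧸ center H →* Module.End K (Matrix (Fin n) (Fin n) K) :=
    QuotientGroup.lift (center H) ρ₀ (fun h hh => (hρ h).2 hh)
  have h1 := S.dim' h7 ρ (by
    intro h
    apply S.z1
    obtain ⟨k, hk⟩ := QuotientGroup.mk_surjective S.z
    rw [← hk] at h ⊢
    exact (QuotientGroup.eq_one_iff k).2 ((hρ k).1 h))
  rwa [Module.finrank_matrix, Module.finrank_self, Fintype.card_fin, mul_one] at h1

variable {F : Type} [Field F] [Fintype F]

omit [Fintype F] in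
theorem not_dvd_card [Fintype F] (h7 : (7 : F) ≠ 0) : ¬ 7 ∣ Fintype.card F := by
  intro h
  obtain ⟨p, hp⟩ := CharP.exists F
  obtain ⟨n, hpp, hn⟩ := FiniteField.card F p
  rw [hn] at h
  have h1 : 7 ∣ p := Nat.Prime.dvd_of_dvd_pow (by norm_num) h
  have h2 : 7 = p := ((Nat.prime_dvd_prime_iff_eq (by norm_num) hpp).1 h1)
  subst h2
  apply h7
  have := CharP.cast_eq_zero F 7
  exact_mod_cast this

/-! ### `PSL` -/

theorem psl {n : ℕ} (hn : 2 ≤ n) (h7 : (7 : F) ≠ 0) (S : Ess (Matrix.ProjectiveSpecialLinearGroup (Fin n) F))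
    (h : ¬ 7 ^ 7 ∣ Nat.card (Matrix.ProjectiveSpecialLinearGroup (Fin n) F)) : False := by
  have hq : ¬ 7 ∣ Fintype.card F := not_dvd_card h7
  have h2 : 2 ≤ Fintype.card F := Fintype.one_lt_card
  have hord := S0243.result (F := F) rfl n hn
  let f : Matrix.SpecialLinearGroup (Fin n) F →* GL (Fin n) F := Matrix.SpecialLinearGroup.toGL
  have hcard : Nat.card (center (Matrix.SpecialLinearGroup (Fin n) F)) = Nat.gcd n (Fintype.card F - 1) :=
    S0280.card_center_SL (by omega)
  by_cases hn17 : n ≤ 17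
  · have h1 := adj h7 f (fun g => ?_) S
    · have h3 : n * n ≤ 17 * 17 := Nat.mul_le_mul hn17 hn17
      omega
    · constructor
      · intro hg M
        obtain ⟨r, -, hr⟩ := Matrix.SpecialLinearGroup.mem_center_iff.1 hg
        show (g : Matrix (Fin n) (Fin n) F) * M = M * (g : Matrix (Fin n) (Fin n) F)
        rw [← hr]
        exact (Matrix.scalar_commute r (fun r' => mul_comm r r') M).eq
      · intro hM
        rw [mem_center_iff]
        intro k
        apply Subtype.ext
        exact (hM k).symm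
  · by_cases h71 : 7 ∣ Fintype.card F - 1
    · exact h (SevenNT.psl_seven h2 hq (Or.inr ⟨h71, by omega⟩) hord)
    · by_cases hn42 : 42 ≤ n
      · exact h (SevenNT.psl_seven h2 hq (Or.inl hn42) hord)
      · obtain ⟨S'⟩ := S.of_quo (m := Nat.gcd n (Fintype.card F - 1)) (Nat.Coprime.coprime_dvd_right
          (Nat.gcd_dvd_right _ _) ((Nat.Prime.coprime_iff_not_dvd (by norm_num)).2 h71)) (by
          intro k hk
          have h3 := pow_card_eq_one' (x := (⟨k, hk⟩ : center (Matrix.SpecialLinearGroup (Fin n) F)))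
          rw [hcard] at h3
          exact congrArg Subtype.val h3)
        refine S'.gl_false h7 (by rw [Fintype.card_fin]; omega) f (fun h3 => S'.z1 ?_)
        exact Matrix.SpecialLinearGroup.toGL_injective (by rw [map_one]; exact h3)

/-! ### `PSU` -/

theorem psu {n q : ℕ} (hF : Fintype.card F = q ^ 2) (hn : 3 ≤ n) (h7 : (7 : F) ≠ 0) (S : Ess (PSU n F q))
    (h : ¬ 7 ^ 7 ∣ Nat.card (PSU n F q)) : False := by
  have hq : ¬ 7 ∣ q := fun h1 => not_dvd_card h7 (by rw [hF]; exact h1.trans (dvd_pow_self q two_ne_zero))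
  have h2 : 2 ≤ q := LieClassical.HermBasic.two_le hF
  have hord := S0280.result hF n (by omega)
  let f : SU n F q →* GL (Fin n) F := (Matrix.SpecialLinearGroup.toGL).comp (SU n F q).subtype
  have hcard : Nat.card (center (SU n F q)) = Nat.gcd n (q + 1) := S0280.card_center hF n (by omega)
  by_cases hn17 : n ≤ 17
  · have h1 := adj h7 f (fun g => ?_) S
    · have h3 : n * n ≤ 17 * 17 := Nat.mul_le_mul hn17 hn17
      omega
    · constructor
      · intro hg M
        obtain ⟨c, hcn, hcq, rfl⟩ := (LieClassical.SUBasic.mem_center_SU_iff hF hn g).1 hg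
        show Matrix.diagonal (fun _ => c) * M = M * Matrix.diagonal (fun _ => c)
        ext i j
        rw [Matrix.mul_diagonal, Matrix.diagonal_mul, mul_comm]
      · intro hM
        rw [mem_center_iff]
        intro k
        apply Subtype.ext
        apply Subtype.ext
        exact (hM ((k : Matrix.SpecialLinearGroup (Fin n) F) : Matrix (Fin n) (Fin n) F)).symm
  · by_cases h71 : 7 ∣ q + 1
    · exact h (SevenNT.psu_seven h2 hq (Or.inr ⟨h71, by omega⟩) hord)
    · by_cases hn42 : 42 ≤ n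
      · exact h (SevenNT.psu_seven h2 hq (Or.inl hn42) hord)
      · obtain ⟨S'⟩ := S.of_quo (m := Nat.gcd n (q + 1)) (Nat.Coprime.coprime_dvd_right
          (Nat.gcd_dvd_right _ _) ((Nat.Prime.coprime_iff_not_dvd (by norm_num)).2 h71)) (by
          intro k hk
          have h3 := pow_card_eq_one' (x := (⟨k, hk⟩ : center (SU n F q)))
          rw [hcard] at h3
          exact congrArg Subtype.val h3)
        refine S'.gl_false h7 (by rw [Fintype.card_fin]; omega) f (fun h3 => S'.z1 (Subtype.ext ?_))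
        exact Matrix.SpecialLinearGroup.toGL_injective (by rw [Subgroup.coe_one, map_one]; exact h3)

/-! ### `PSp` -/

theorem psp {m : ℕ} (hm : 2 ≤ m) (h7 : (7 : F) ≠ 0) (S : Ess (PSp m F)) (h : ¬ 7 ^ 7 ∣ Nat.card (PSp m F)) :
    False := by
  have hq : ¬ 7 ∣ Fintype.card F := not_dvd_card h7
  have hcard := S0246.result (F := F) rfl m (by omega)
  have hord : Nat.gcd 2 (Fintype.card F - 1) * Nat.card (PSp m F) =
      Fintype.card F ^ (m ^ 2) * ∏ i ∈ Finset.range m, (Fintype.card F ^ (2 * (i + 1)) - 1) := by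
    rw [← S0245.result (F := F) rfl m, ← hcard, mul_comm]
    exact (Subgroup.card_eq_card_quotient_mul_card_subgroup _).symm
  by_cases hm21 : 21 ≤ m
  · exact h (SevenNT.psp_seven hq hm21 hord)
  · obtain ⟨S'⟩ := S.of_quo (m := Nat.gcd 2 (Fintype.card F - 1)) (Nat.Coprime.coprime_dvd_right
      (Nat.gcd_dvd_left _ _) (by norm_num)) (by
      intro k hk
      have h3 := pow_card_eq_one' (x := (⟨k, hk⟩ : center (Matrix.symplecticGroup (Fin m) F)))
      rw [hcard] at h3
      exact congrArg Subtype.val h3)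
    have h1 := S'.dim_mat h7 (Matrix.symplecticGroup (Fin m) F).subtype (fun h3 => S'.z1 (Subtype.ext h3))
    rw [Fintype.card_sum, Fintype.card_fin] at h1
    omega

/-! ### orthogonal groups -/

open QuadraticMap in
omit [Fintype F] in
theorem pomega {ι : Type} [Fintype ι] [DecidableEq ι] (h7 : (7 : F) ≠ 0) (Q : QuadraticForm F (ι → F))
    (hQ : (polarBilin Q).Nondegenerate) (hn : 3 ≤ Fintype.card ι) (hs : ∃ u : ι → F, u ≠ 0 ∧ Q u = 0)
    (hι : Fintype.card ι < 294) (S : Ess (POmega F (⇑Q))) : False := by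
  obtain ⟨S'⟩ := S.of_quo (m := 2) (by norm_num) (by
    intro k hk
    have h1 := LieClassical.OrthCenter.eq_one_or_neg_one_of_commute_omega hQ hn hs (k : isometryGroup F (⇑Q))
      (fun g hg => (congrArg Subtype.val (mem_center_iff.1 hk ⟨g, hg⟩)).symm)
    have h2 : (((k : isometryGroup F (⇑Q)) : GL ι F) : Matrix ι ι F) *
        (((k : isometryGroup F (⇑Q)) : GL ι F) : Matrix ι ι F) = 1 := by
      rcases h1 with h1 | h1
      · rw [h1, mul_one]
      · rw [h1, neg_mul_neg, mul_one]
    apply Subtype.ext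
    apply Subtype.ext
    apply Units.ext
    rw [pow_two]
    exact h2)
  exact S'.gl_false h7 hι ((isometryGroup F (⇑Q)).subtype.comp (Omega F (⇑Q)).subtype)
    (fun h3 => S'.z1 (Subtype.ext (Subtype.ext h3)))

theorem podd {m : ℕ} (hm : 3 ≤ m) (hodd : Odd (Fintype.card F)) (h7 : (7 : F) ≠ 0)
    (S : Ess (POmega F (quadFormOdd m F))) (h : ¬ 7 ^ 7 ∣ Nat.card (POmega F (quadFormOdd m F))) : False := by
  have hq : ¬ 7 ∣ Fintype.card F := not_dvd_card h7
  by_cases hm21 : 21 ≤ m
  · exact h (SevenNT.odd_seven hq hm21 (S0292.result rfl hodd m hm))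
  · have h2 : (2 : F) ≠ 0 := by
      rw [← LieClassical.PomegaCard.odd_card_iff]
      exact hodd
    have hc : Fintype.card (Unit ⊕ (Fin m ⊕ Fin m)) = 2 * m + 1 := by
      simp
      ring
    rw [← LieClassical.QuadForms.coe_oddForm] at S
    exact pomega h7 _ (S0292.oddForm_nondegenerate h2 m) (by omega) (S0292.exists_singular (by omega)) (by omega) S

theorem pplus {m : ℕ} (hm : 4 ≤ m) (h7 : (7 : F) ≠ 0)
    (S : Ess (POmega F (quadFormPlus m F))) (h : ¬ 7 ^ 7 ∣ Nat.card (POmega F (quadFormPlus m F))) : False := by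
  have hq : ¬ 7 ∣ Fintype.card F := not_dvd_card h7
  by_cases hm21 : 22 ≤ m
  · exact h (SevenNT.even_seven hq hm21 (S0293.result rfl m hm))
  · have hc : Fintype.card (Fin m ⊕ Fin m) = 2 * m := by
      simp
      ring
    rw [← LieClassical.OmegaReindex.coe_quadPlus] at S
    exact pomega h7 _ LieClassical.OmegaReindex.quadPlus_nondegenerate (by omega)
      (LieClassical.OmegaReindex.quadPlus_isotropic (by omega)) (by omega) S

theorem pminus {m : ℕ} (hm : 4 ≤ m) (h7 : (7 : F) ≠ 0) {a b : F}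
    (hab : ∀ z₁ z₂ : F, z₁ ^ 2 + a * z₁ * z₂ + b * z₂ ^ 2 = 0 → z₁ = 0 ∧ z₂ = 0)
    (S : Ess (POmega F (quadFormMinus (m - 1) F a b)))
    (h : ¬ 7 ^ 7 ∣ Nat.card (POmega F (quadFormMinus (m - 1) F a b))) : False := by
  have hq : ¬ 7 ∣ Fintype.card F := not_dvd_card h7
  by_cases hm21 : 22 ≤ m
  · exact h (SevenNT.even_seven hq hm21 (S0294.result rfl m hm a b hab))
  · have hc : Fintype.card ((Fin (m - 1) ⊕ Fin (m - 1)) ⊕ Fin 2) = 2 * m := by
      simp only [Fintype.card_sum, Fintype.card_fin]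
      omega
    rw [← LieClassical.OmegaReindex.coe_quadMinus] at S
    exact pomega h7 _ (LieClassical.OmegaReindex.quadMinus_nondegenerate hab) (by omega)
      (LieClassical.OmegaReindex.quadMinus_isotropic (by omega) a b) (by omega) S

/-! ### all classical groups -/

theorem _root_.Cfsg.Agent.H772.Ess.classical {L : Type u} [Group L] (S : Ess L) (h : ¬ 7 ^ 7 ∣ Nat.card L)
    (hL : IsPSL L ∨ IsPSp L ∨ IsPSU L ∨ IsPOmegaOdd L ∨ IsPOmegaPlus L ∨ IsPOmegaMinus L) : IsLieTypeChar 7 L := by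
  rcases hL with hL | hL | hL | hL | hL | hL
  · obtain ⟨F, _, _, n, hn, hn2, ⟨e⟩⟩ := hL
    by_cases h7 : (7 : F) = 0
    · exact Or.inl ⟨F, _, inferInstance, charP_seven h7, n, hn, hn2, ⟨e⟩⟩
    · rw [Nat.card_congr e.toEquiv] at h
      exact (psl hn h7 (S.map e.toMonoidHom e.injective) h).elim
  · obtain ⟨F, _, _, n, hn, hn2, ⟨e⟩⟩ := hL
    by_cases h7 : (7 : F) = 0
    · exact Or.inr (Or.inl ⟨F, _, inferInstance, charP_seven h7, n, hn, hn2, ⟨e⟩⟩)
    · rw [Nat.card_congr e.toEquiv] at h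
      exact (psp hn h7 (S.map e.toMonoidHom e.injective) h).elim
  · obtain ⟨F, _, _, n, q, hF, hn, hn2, ⟨e⟩⟩ := hL
    by_cases h7 : (7 : F) = 0
    · exact Or.inr (Or.inr (Or.inl ⟨F, _, inferInstance, charP_seven h7, n, q, hF, hn, hn2, ⟨e⟩⟩))
    · rw [Nat.card_congr e.toEquiv] at h
      exact (psu hF hn h7 (S.map e.toMonoidHom e.injective) h).elim
  · obtain ⟨F, _, _, m, hm, ho, ⟨e⟩⟩ := hL
    by_cases h7 : (7 : F) = 0
    · exact Or.inr (Or.inr (Or.inr (Or.inl ⟨F, _, inferInstance, charP_seven h7, m, hm, ho, ⟨e⟩⟩)))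
    · rw [Nat.card_congr e.toEquiv] at h
      exact (podd hm ho h7 (S.map e.toMonoidHom e.injective) h).elim
  · obtain ⟨F, _, _, m, hm, ⟨e⟩⟩ := hL
    by_cases h7 : (7 : F) = 0
    · exact Or.inr (Or.inr (Or.inr (Or.inr (Or.inl ⟨F, _, inferInstance, charP_seven h7, m, hm, ⟨e⟩⟩))))
    · rw [Nat.card_congr e.toEquiv] at h
      exact (pplus hm h7 (S.map e.toMonoidHom e.injective) h).elim
  · obtain ⟨F, _, _, m, a, b, hm, hab, ⟨e⟩⟩ := hL
    by_cases h7 : (7 : F) = 0
    · exact Or.inr (Or.inr (Or.inr (Or.inr (Or.inr (Or.inl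
        ⟨F, _, inferInstance, charP_seven h7, m, a, b, hm, hab, ⟨e⟩⟩)))))
    · rw [Nat.card_congr e.toEquiv] at h
      exact (pminus hm h7 hab (S.map e.toMonoidHom e.injective) h).elim

end Ess

end Cfsg.Agent.H772
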