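import Mathlib

/-!
# Representations of a group with a rational extraspecial subgroup `7^{1+4}` (helper772)

`Ess H`: elements `z, a₁, b₁, a₂, b₂` generating an extraspecial group of order `7^5` with centre `⟨z⟩`, and `h` with
`h z h⁻¹ = z³`. A representation in characteristic different from 7 in which `z` acts nontrivially has dimension at least
294 (`Ess.dim`, `Ess.dim'`, `Ess.dim_mat`).
-/

set_option autoImplicit false

namespace Cfsg.Agent.H772

open Module

universe u v w

/-- the elements -/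
structure Ess (H : Type u) [Group H] where
  /-- central element -/
  z : H
  a₁ : H
  b₁ : H
  a₂ : H
  b₂ : H
  /-- the element normalizing `⟨z⟩` -/
  h : H
  z7 : z ^ 7 = 1
  a₁7 : a₁ ^ 7 = 1
  b₁7 : b₁ ^ 7 = 1
  a₂7 : a₂ ^ 7 = 1
  b₂7 : b₂ ^ 7 = 1
  z1 : z ≠ 1
  za₁ : z * a₁ = a₁ * z
  zb₁ : z * b₁ = b₁ * z
  za₂ : z * a₂ = a₂ * z
  zb₂ : z * b₂ = b₂ * z
  c₁ : a₁ * b₁ = z * (b₁ * a₁)
  c₂ : a₂ * b₂ = z * (b₂ * a₂)
  caa : a₁ * a₂ = a₂ * a₁
  cab : a₁ * b₂ = b₂ * a₁
  cba : b₁ * a₂ = a₂ * b₁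
  cbb : b₁ * b₂ = b₂ * b₁
  hz : h * z = z ^ 3 * h

section Lin

variable {K : Type v} {V : Type w} [Field K] [AddCommGroup V] [Module K V] [FiniteDimensional K V]

theorem mul_le_finrank (T : End K V) {m : ℕ} (μ : Fin m → K) (hμ : Function.Injective μ) (d : ℕ)
    (hd : ∀ i, d ≤ finrank K (T.eigenspace (μ i))) : m * d ≤ finrank K V := by
  classical
  have h1 : iSupIndep (fun i : Fin m => T.eigenspace (μ i)) := (End.eigenspaces_iSupIndep T).comp hμ
  have h2 := h1.dfinsupp_lsum_injective
  have h3 := LinearMap.finrank_le_finrank_of_injective h2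
  have h4 : finrank K (Π₀ i : Fin m, T.eigenspace (μ i)) = ∑ i, finrank K (T.eigenspace (μ i)) :=
    Module.finrank_directSum (R := K) (fun i : Fin m => T.eigenspace (μ i))
  rw [h4] at h3
  calc m * d = ∑ _i : Fin m, d := by simp
    _ ≤ ∑ i, finrank K (T.eigenspace (μ i)) := Finset.sum_le_sum fun i _ => hd i
    _ ≤ _ := h3

theorem mod_eq_of_pow_eq {K : Type*} [Field K] {l : K} (hl7 : l ^ 7 = 1) (hl1 : l ≠ 1) {i j : ℕ} (h : l ^ i = l ^ j) : i % 7 = j % 7 := by
  have : Fact (Nat.Prime 7) := ⟨by norm_num⟩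
  have hl0 : l ≠ 0 := by
    rintro rfl
    norm_num at hl7
  have hord : orderOf (Units.mk0 l hl0) = 7 :=
    orderOf_eq_prime (p := 7) (Units.ext (by simpa using hl7)) (fun h => hl1 (by simpa using congrArg Units.val h))
  have h1 : (Units.mk0 l hl0) ^ i = (Units.mk0 l hl0) ^ j := Units.ext (by simpa using h)
  have h2 := (pow_inj_mod).1 h1
  rwa [hord] at h2

/-- an injective endomorphism multiplying eigenvalues -/
theorem finrank_eigenspace_le (T S : End K V) (hS : Function.Injective S) {α β : K}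
    (h : ∀ v, T v = α • v → T (S v) = β • S v) : finrank K (T.eigenspace α) ≤ finrank K (T.eigenspace β) := by
  have h1 : ∀ v ∈ T.eigenspace α, S v ∈ T.eigenspace β := fun v hv =>
    End.mem_eigenspace_iff.2 (h v (End.mem_eigenspace_iff.1 hv))
  exact LinearMap.finrank_le_finrank_of_injective (f := S.restrict h1) (fun v w hvw => by
    apply Subtype.ext
    apply hS
    exact congrArg Subtype.val hvw)

theorem seven_mul_le {l : K} (hl7 : l ^ 7 = 1) (hl1 : l ≠ 1) (T S : End K V) (hT : Function.Injective T)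
    (hS : Function.Injective S) (hTS : ∀ v, T (S v) = l • S (T v)) {α : K} (hα : T.HasEigenvalue α) :
    7 * finrank K (T.eigenspace α) ≤ finrank K V := by
  have hα0 : α ≠ 0 := by
    rintro rfl
    obtain ⟨v, hv, hv0⟩ := hα.exists_hasEigenvector
    rw [End.mem_eigenspace_iff, zero_smul] at hv
    exact hv0 (hT (by rw [hv, map_zero]))
  have hl0 : l ≠ 0 := by
    rintro rfl
    norm_num at hl7
  refine mul_le_finrank T (fun i : Fin 7 => l ^ (i : ℕ) * α) ?_ _ fun i => ?_
  · intro i j hij
    have h1 : l ^ (i : ℕ) = l ^ (j : ℕ) := mul_right_cancel₀ hα0 hij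
    have h2 := mod_eq_of_pow_eq hl7 hl1 h1
    rw [Nat.mod_eq_of_lt i.2, Nat.mod_eq_of_lt j.2] at h2
    exact Fin.ext h2
  · have h1 : ∀ n : ℕ, ∀ v, T v = α • v → T ((S ^ n) v) = (l ^ n * α) • (S ^ n) v := by
      intro n
      induction n with
      | zero => intro v hv; simpa using hv
      | succ n ih =>
        intro v hv
        rw [pow_succ', End.mul_apply, hTS, ih v hv, map_smul, smul_smul, pow_succ']
        congr 1
        ring
    have h2 : ∀ n : ℕ, Function.Injective (S ^ n : End K V) := by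
      intro n
      induction n with
      | zero => exact Function.injective_id
      | succ n ih =>
        intro v w hvw
        rw [pow_succ', End.mul_apply, End.mul_apply] at hvw
        exact ih (hS hvw)
    exact finrank_eigenspace_le T (S ^ (i : ℕ)) (h2 i) (h1 i)

end Lin

namespace Ess

variable {H : Type u} [Group H] (S : Ess H) {K : Type v} {V : Type w} [Field K] [AddCommGroup V] [Module K V]
  [FiniteDimensional K V]

omit [FiniteDimensional K V] in
theorem map_injective (ρ : H →* End K V) (g : H) : Function.Injective (ρ g) := by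
  intro v w hvw
  have h1 : ∀ v, ρ g⁻¹ (ρ g v) = v := by
    intro v
    rw [← End.mul_apply, ← map_mul, inv_mul_cancel, map_one]
    rfl
  rw [← h1 v, hvw, h1 w]

/-- the faithful part: 49 ≤ dim of every nontrivial eigenspace of `z` -/
theorem dim49 [IsAlgClosed K] (ρ : H →* End K V) {l : K} (hl7 : l ^ 7 = 1) (hl1 : l ≠ 1)
    (hl : (ρ S.z).HasEigenvalue l) : 49 ≤ finrank K ((ρ S.z).eigenspace l) := by
  -- restriction to the eigenspace
  have hmem : ∀ g, S.z * g = g * S.z → ∀ v ∈ (ρ S.z).eigenspace l, ρ g v ∈ (ρ S.z).eigenspace l := by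
    intro g hg v hv
    rw [End.mem_eigenspace_iff] at hv ⊢
    rw [← End.mul_apply, ← map_mul, hg, map_mul, End.mul_apply, hv, map_smul]
  let A₁ : End K ((ρ S.z).eigenspace l) := (ρ S.a₁).restrict (hmem _ S.za₁)
  let B₁ : End K ((ρ S.z).eigenspace l) := (ρ S.b₁).restrict (hmem _ S.zb₁)
  let A₂ : End K ((ρ S.z).eigenspace l) := (ρ S.a₂).restrict (hmem _ S.za₂)
  let B₂ : End K ((ρ S.z).eigenspace l) := (ρ S.b₂).restrict (hmem _ S.zb₂)
  have hinj : ∀ (g : H) (hg : S.z * g = g * S.z), Function.Injective ((ρ g).restrict (hmem _ hg)) := by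
    intro g hg v w hvw
    apply Subtype.ext
    exact map_injective ρ g (congrArg Subtype.val hvw)
  have hnt : Nontrivial ((ρ S.z).eigenspace l) := by
    rw [Submodule.nontrivial_iff_ne_bot]
    exact hl
  obtain ⟨α, hα⟩ := End.exists_eigenvalue A₁
  have h1 : 7 * finrank K (A₁.eigenspace α) ≤ finrank K ((ρ S.z).eigenspace l) := by
    refine seven_mul_le hl7 hl1 A₁ B₁ (hinj _ S.za₁) (hinj _ S.zb₁) (fun v => ?_) hα
    apply Subtype.ext
    show ρ S.a₁ (ρ S.b₁ v) = l • ρ S.b₁ (ρ S.a₁ v)
    rw [← End.mul_apply, ← End.mul_apply, ← map_mul, ← map_mul, S.c₁, map_mul, End.mul_apply]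
    have h2 : S.z * (S.b₁ * S.a₁) = S.b₁ * S.a₁ * S.z := by
      rw [← mul_assoc, S.zb₁, mul_assoc, S.za₁, ← mul_assoc]
    exact End.mem_eigenspace_iff.1 (hmem _ h2 v v.2)
  -- second step
  have hmem' : ∀ (g : H) (hg : S.z * g = g * S.z) (hg' : S.a₁ * g = g * S.a₁), ∀ v ∈ A₁.eigenspace α,
      (ρ g).restrict (hmem _ hg) v ∈ A₁.eigenspace α := by
    intro g hg hg' v hv
    rw [End.mem_eigenspace_iff] at hv ⊢
    apply Subtype.ext
    show ρ S.a₁ (ρ g v) = α • ρ g v
    have h2 : ρ S.a₁ (v : V) = α • (v : V) := congrArg Subtype.val hv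
    rw [← End.mul_apply, ← map_mul, hg', map_mul, End.mul_apply, h2, map_smul]
  have hnt' : Nontrivial (A₁.eigenspace α) := by
    rw [Submodule.nontrivial_iff_ne_bot]
    exact hα
  let A₃ : End K (A₁.eigenspace α) := A₂.restrict (hmem' _ S.za₂ S.caa)
  let B₃ : End K (A₁.eigenspace α) := B₂.restrict (hmem' _ S.zb₂ S.cab)
  obtain ⟨β, hβ⟩ := End.exists_eigenvalue A₃
  have h2 : 7 * finrank K (A₃.eigenspace β) ≤ finrank K (A₁.eigenspace α) := by
    refine seven_mul_le hl7 hl1 A₃ B₃ ?_ ?_ (fun v => ?_) hβ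
    · intro v w hvw
      apply Subtype.ext
      exact hinj _ S.za₂ (congrArg Subtype.val hvw)
    · intro v w hvw
      apply Subtype.ext
      exact hinj _ S.zb₂ (congrArg Subtype.val hvw)
    · apply Subtype.ext
      apply Subtype.ext
      show ρ S.a₂ (ρ S.b₂ v) = l • ρ S.b₂ (ρ S.a₂ v)
      rw [← End.mul_apply, ← End.mul_apply, ← map_mul, ← map_mul, S.c₂, map_mul, End.mul_apply]
      have h2 : S.z * (S.b₂ * S.a₂) = S.b₂ * S.a₂ * S.z := by
        rw [← mul_assoc, S.zb₂, mul_assoc, S.za₂, ← mul_assoc]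
      exact End.mem_eigenspace_iff.1 (hmem _ h2 v v.1.2)
  have h3 : 1 ≤ finrank K (A₃.eigenspace β) := by
    have hne : A₃.eigenspace β ≠ ⊥ := hβ
    by_contra h4
    have h5 : finrank K (A₃.eigenspace β) = 0 := by omega
    exact hne (Submodule.finrank_eq_zero.1 h5)
  omega

theorem dim [IsAlgClosed K] (h7 : (7 : K) ≠ 0) (ρ : H →* End K V) (hz : ρ S.z ≠ 1) : 294 ≤ finrank K V := by
  classical
  -- an eigenvalue different from 1
  obtain ⟨l, hl, hl1⟩ : ∃ l, (ρ S.z).HasEigenvalue l ∧ l ≠ 1 := by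
    let A : End K V := ρ S.z
    have hA7 : A ^ 7 = 1 := by
      show (ρ S.z) ^ 7 = 1
      rw [← map_pow, S.z7, map_one]
    let N : End K V := 1 + A + A ^ 2 + A ^ 3 + A ^ 4 + A ^ 5 + A ^ 6
    have hNA : N * (A - 1) = 0 := by
      have : N * (A - 1) = A ^ 7 - 1 := by
        simp only [N]
        noncomm_ring
      rw [this, hA7, sub_self]
    have hAN : A * N = N * A := by
      simp only [N]
      noncomm_ring
    obtain ⟨v, hv⟩ : ∃ v, A v ≠ v := by
      by_contra hcon
      push Not at hcon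
      exact hz (LinearMap.ext hcon)
    have hmem : ∀ w ∈ LinearMap.ker N, A w ∈ LinearMap.ker N := by
      intro w hw
      rw [LinearMap.mem_ker] at hw ⊢
      rw [← End.mul_apply, ← hAN, End.mul_apply, hw, map_zero]
    have hnt : Nontrivial (LinearMap.ker N) := by
      rw [Submodule.nontrivial_iff_ne_bot]
      intro h
      have h1 : A v - v ∈ LinearMap.ker N := by
        rw [LinearMap.mem_ker]
        exact DFunLike.congr_fun hNA v
      rw [h, Submodule.mem_bot, sub_eq_zero] at h1
      exact hv h1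
    obtain ⟨l, hl⟩ := End.exists_eigenvalue (A.restrict hmem)
    obtain ⟨u, hu, hu0⟩ := hl.exists_hasEigenvector
    rw [End.mem_eigenspace_iff] at hu
    have hu' : A (u : V) = l • (u : V) := congrArg Subtype.val hu
    have hu0' : (u : V) ≠ 0 := fun h => hu0 (Subtype.ext h)
    refine ⟨l, End.hasEigenvalue_of_hasEigenvector ⟨End.mem_eigenspace_iff.2 hu', hu0'⟩, ?_⟩
    rintro rfl
    rw [one_smul] at hu'
    have h1 : ∀ n : ℕ, (A ^ n) (u : V) = u := by
      intro n
      induction n with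
      | zero => rfl
      | succ n ih => rw [pow_succ', End.mul_apply, ih, hu']
    have h2 : N (u : V) = (7 : K) • (u : V) := by
      simp only [N, LinearMap.add_apply, h1, hu', End.one_apply]
      rw [show (7 : K) = 1 + 1 + 1 + 1 + 1 + 1 + 1 by norm_num]
      simp only [add_smul, one_smul]
    have h3 : N (u : V) = 0 := u.2
    rw [h2] at h3
    rcases smul_eq_zero.1 h3 with h4 | h4
    · exact h7 h4
    · exact hu0' h4
  have hl7 : l ^ 7 = 1 := by
    obtain ⟨v, hv, hv0⟩ := hl.exists_hasEigenvector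
    rw [End.mem_eigenspace_iff] at hv
    have h1 : ∀ n : ℕ, ((ρ S.z) ^ n) v = l ^ n • v := by
      intro n
      induction n with
      | zero => simp
      | succ n ih => rw [pow_succ', End.mul_apply, ih, map_smul, hv, smul_smul, pow_succ]
    have h2 := h1 7
    rw [← map_pow, S.z7, map_one, End.one_apply] at h2
    have h3 : (l ^ 7 - 1) • v = 0 := by rw [sub_smul, one_smul, ← h2, sub_self]
    rcases smul_eq_zero.1 h3 with h4 | h4
    · exact sub_eq_zero.1 h4
    · exact absurd h4 hv0
  -- the element `h` permutes the eigenspaces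
  have hstep : ∀ (m : K) (v : V), ρ S.z v = m • v → ρ S.z (ρ S.h v) = m ^ 5 • ρ S.h v := by
    intro m v hv
    have h1 : ρ (S.z ^ 3) (ρ S.h v) = m • ρ S.h v := by
      rw [← End.mul_apply, ← map_mul, ← S.hz, map_mul, End.mul_apply, hv, map_smul]
    have h2 : ∀ n : ℕ, (ρ (S.z ^ 3) ^ n) (ρ S.h v) = m ^ n • ρ S.h v := by
      intro n
      induction n with
      | zero => simp
      | succ n ih => rw [pow_succ', End.mul_apply, ih, map_smul, h1, smul_smul, pow_succ]
    have h3 := h2 5
    have h4 : (ρ (S.z ^ 3)) ^ 5 = ρ S.z := by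
      rw [← map_pow, ← pow_mul]
      have : S.z ^ (3 * 5) = S.z := by
        calc S.z ^ (3 * 5) = (S.z ^ 7) ^ 2 * S.z := by group
          _ = S.z := by rw [S.z7, one_pow, one_mul]
      rw [this]
    rwa [h4] at h3
  have hpow : ∀ (n : ℕ) (v : V), ρ S.z v = l • v → ρ S.z (((ρ S.h) ^ n) v) = l ^ 5 ^ n • ((ρ S.h) ^ n) v := by
    intro n
    induction n with
    | zero => intro v hv; simpa using hv
    | succ n ih =>
      intro v hv
      rw [pow_succ', End.mul_apply, hstep _ _ (ih v hv), ← pow_mul, pow_succ]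
  have h49 := S.dim49 ρ hl7 hl1 hl
  have key := mul_le_finrank (ρ S.z) (fun i : Fin 6 => l ^ 5 ^ (i : ℕ)) (by
    intro i j hij
    have h1 := mod_eq_of_pow_eq hl7 hl1 hij
    have h2 : ∀ i j : Fin 6, 5 ^ (i : ℕ) % 7 = 5 ^ (j : ℕ) % 7 → i = j := by decide
    exact h2 i j h1) 49 (fun i => h49.trans (finrank_eigenspace_le (ρ S.z) ((ρ S.h) ^ (i : ℕ)) (by
      rw [← map_pow]
      exact map_injective ρ _) (hpow i)))
  omega

/-- matrices over any field of characteristic different from 7 -/
theorem dim_mat {K : Type v} [Field K] (h7 : (7 : K) ≠ 0) {n : Type*} [Fintype n] [DecidableEq n]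
    (ρ : H →* Matrix n n K) (hz : ρ S.z ≠ 1) : 294 ≤ Fintype.card n := by
  let f : K →+* AlgebraicClosure K := algebraMap K (AlgebraicClosure K)
  let ρ' : H →* End (AlgebraicClosure K) (n → AlgebraicClosure K) :=
    ((Matrix.toLinAlgEquiv' (R := AlgebraicClosure K) (n := n)).toMonoidHom.comp
      (f.mapMatrix (m := n)).toMonoidHom).comp ρ
  have h1 := S.dim (K := AlgebraicClosure K) (V := n → AlgebraicClosure K) (by
    intro h
    apply h7
    apply f.injective
    rw [map_zero, map_ofNat]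
    exact h) ρ' (by
    intro h
    apply hz
    have h2 : f.mapMatrix (ρ S.z) = 1 := by
      apply (Matrix.toLinAlgEquiv' (R := AlgebraicClosure K) (n := n)).injective
      rw [map_one]
      exact h
    ext i j
    have h3 := congrFun (congrFun h2 i) j
    apply f.injective
    rw [RingHom.mapMatrix_apply, Matrix.map_apply] at h3
    rw [h3, Matrix.one_apply, Matrix.one_apply]
    split_ifs
    · rw [map_one]
    · rw [map_zero])
  rwa [finrank_fintype_fun_eq_card] at h1

/-- endomorphisms over any field of characteristic different from 7 -/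
theorem dim' {K : Type v} [Field K] {V : Type w} [AddCommGroup V] [Module K V] [FiniteDimensional K V]
    (h7 : (7 : K) ≠ 0) (ρ : H →* End K V) (hz : ρ S.z ≠ 1) : 294 ≤ finrank K V := by
  let b := Module.finBasis K V
  have h1 := S.dim_mat h7 ((LinearMap.toMatrixAlgEquiv b).toMonoidHom.comp ρ) (by
    intro h
    apply hz
    apply (LinearMap.toMatrixAlgEquiv b).injective
    rw [map_one]
    exact h)
  rwa [Fintype.card_fin] at h1

end Ess

end Cfsg.Agent.H772
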