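import Cfsg.Agent.H772.EssLift
import Cfsg.Prelude.Def_Classification2
import Cfsg.Prelude.Def_LieTypeChar

/-!
# `7^{1+4}` with a rational centre is not contained in an exceptional group of characteristic different from 7, nor in a
small alternating group (helper772)
-/

set_option autoImplicit false

namespace Cfsg.Agent.H772

open Cfsg

universe u v

theorem charP_seven {F : Type*} [Field F] (h : (7 : F) = 0) : CharP F 7 := by
  have hd : ringChar F ∣ 7 := (ringChar.spec F 7).1 (by exact_mod_cast h)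
  rcases (Nat.dvd_prime (by norm_num)).1 hd with h1 | h1
  · exact absurd h1 CharP.ringChar_ne_one
  · rw [← h1]
    exact ringChar.charP F

theorem card_idx (D : Lie.ChevalleyDatum) : Fintype.card D.Idx = D.rank + D.nroots := by
  rw [Fintype.card_sum, Fintype.card_fin, Fintype.card_fin]

namespace Ess

variable {L : Type u} [Group L] (S : Ess L)

include S

/-- subgroups of the general linear group -/
theorem gl_false {ι : Type*} [Fintype ι] [DecidableEq ι] {K : Type*} [Field K] (h7 : (7 : K) ≠ 0)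
    (hι : Fintype.card ι < 294) (f : L →* GL ι K) (hf : f S.z ≠ 1) : False := by
  have h1 := S.dim_mat h7 ((Units.coeHom (Matrix ι ι K)).comp f) (by
    intro h
    apply hf
    exact Units.ext h)
  omega

theorem iso_false {ι : Type*} [Fintype ι] [DecidableEq ι] {K : Type*} [Field K] (h7 : (7 : K) ≠ 0)
    (hι : Fintype.card ι < 294) {H : Subgroup (GL ι K)} (e : L ≃* H) : False :=
  S.gl_false h7 hι (H.subtype.comp e.toMonoidHom) (fun h => S.z1 (e.injective (Subtype.ext (by
    rw [map_one]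
    exact h))))

theorem exceptional (h : IsExceptionalLieType L) : IsLieTypeChar 7 L := by
  rcases h with h | h | h | h | h | h | h | h | h | h | h
  · obtain ⟨F, _, _, h3, ⟨e⟩⟩ := h
    by_cases h7 : (7 : F) = 0
    · exact Or.inr (Or.inr (Or.inr (Or.inr (Or.inr (Or.inr (Or.inl
        ⟨F, _, inferInstance, charP_seven h7, Or.inl ⟨h3, ⟨e⟩⟩⟩))))))
    · exact (S.iso_false h7 (by rw [card_idx]; decide) e).elim
  · obtain ⟨F, _, _, ⟨e⟩⟩ := h
    by_cases h7 : (7 : F) = 0
    · exact Or.inr (Or.inr (Or.inr (Or.inr (Or.inr (Or.inr (Or.inl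
        ⟨F, _, inferInstance, charP_seven h7, Or.inr (Or.inl ⟨e⟩)⟩))))))
    · exact (S.iso_false h7 (by rw [card_idx]; decide) e).elim
  · obtain ⟨F, _, _, ⟨e⟩⟩ := h
    by_cases h7 : (7 : F) = 0
    · exact Or.inr (Or.inr (Or.inr (Or.inr (Or.inr (Or.inr (Or.inl
        ⟨F, _, inferInstance, charP_seven h7, Or.inr (Or.inr (Or.inl ⟨e⟩))⟩))))))
    · exact (S.iso_false h7 (by rw [card_idx]; decide) e).elim
  · obtain ⟨F, _, _, ⟨e⟩⟩ := h
    by_cases h7 : (7 : F) = 0
    · exact Or.inr (Or.inr (Or.inr (Or.inr (Or.inr (Or.inr (Or.inl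
        ⟨F, _, inferInstance, charP_seven h7, Or.inr (Or.inr (Or.inr (Or.inl ⟨e⟩)))⟩))))))
    · exact (S.iso_false h7 (by rw [card_idx]; decide) e).elim
  · obtain ⟨F, _, _, ⟨e⟩⟩ := h
    by_cases h7 : (7 : F) = 0
    · exact Or.inr (Or.inr (Or.inr (Or.inr (Or.inr (Or.inr (Or.inl
        ⟨F, _, inferInstance, charP_seven h7, Or.inr (Or.inr (Or.inr (Or.inr ⟨e⟩)))⟩))))))
    · exact (S.iso_false h7 (by rw [card_idx]; decide) e).elim
  · obtain ⟨F, _, _, q, hq, hF, ⟨e⟩⟩ := h
    by_cases h7 : (7 : F) = 0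
    · exact Or.inr (Or.inr (Or.inr (Or.inr (Or.inr (Or.inr (Or.inr (Or.inl
        ⟨F, _, inferInstance, charP_seven h7, q, hq, Or.inl ⟨hF, ⟨e⟩⟩⟩)))))))
    · exact (S.iso_false h7 (by rw [card_idx]; decide) e).elim
  · obtain ⟨F, _, _, q, hq, hF, ⟨e⟩⟩ := h
    by_cases h7 : (7 : F) = 0
    · exact Or.inr (Or.inr (Or.inr (Or.inr (Or.inr (Or.inr (Or.inr (Or.inl
        ⟨F, _, inferInstance, charP_seven h7, q, hq, Or.inr ⟨hF, ⟨e⟩⟩⟩)))))))
    · exact (S.iso_false h7 (by rw [card_idx]; decide) e).elim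
  · obtain ⟨F, _, _, m, hm, hF, ⟨e⟩⟩ := h
    have h7 : (7 : F) ≠ 0 := by
      intro h7
      have := charP_seven h7
      have h1 := FiniteField.cast_card_eq_zero F
      rw [CharP.cast_eq_zero_iff F 7, hF] at h1
      have h2 := Nat.Prime.dvd_of_dvd_pow (by norm_num) h1
      norm_num at h2
    exact (S.iso_false h7 (by decide) e).elim
  · obtain ⟨F, _, _, m, hm, hF, ⟨e⟩⟩ := h
    have h7 : (7 : F) ≠ 0 := by
      intro h7
      have := charP_seven h7
      have h1 := FiniteField.cast_card_eq_zero F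
      rw [CharP.cast_eq_zero_iff F 7, hF] at h1
      have h2 := Nat.Prime.dvd_of_dvd_pow (by norm_num) h1
      norm_num at h2
    exact (S.iso_false h7 (by rw [card_idx]; decide) e).elim
  · obtain ⟨F, _, _, m, hm, hF, ⟨e⟩⟩ := h
    have h7 : (7 : F) ≠ 0 := by
      intro h7
      have := charP_seven h7
      have h1 := FiniteField.cast_card_eq_zero F
      rw [CharP.cast_eq_zero_iff F 7, hF] at h1
      have h2 := Nat.Prime.dvd_of_dvd_pow (by norm_num) h1
      norm_num at h2
    exact (S.iso_false h7 (by rw [card_idx]; decide) e).elim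
  · obtain ⟨e⟩ := h
    refine (S.gl_false (K := ZMod 2) (by decide) (by rw [card_idx]; decide : Fintype.card Lie.chevF4.Idx < 294)
      ((Lie.twistedF4 (ZMod 2) 1).subtype.comp ((commutator (Lie.twistedF4 (ZMod 2) 1)).subtype.comp e.toMonoidHom))
      fun h => S.z1 (e.injective (Subtype.ext (Subtype.ext ?_)))).elim
    rw [map_one]
    exact h

/-- alternating groups -/
theorem alternating {n : ℕ} (e : L ≃* alternatingGroup (Fin n)) : 294 ≤ n := by
  let ρ : L →* Module.End ℚ (Fin n → ℚ) :=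
    { toFun := fun g => LinearMap.funLeft ℚ ℚ ((e g : Equiv.Perm (Fin n))⁻¹ : Equiv.Perm (Fin n))
      map_one' := by
        rw [map_one]
        rfl
      map_mul' := fun g h => by
        rw [map_mul]
        apply LinearMap.ext
        intro f
        funext i
        show f _ = f _
        rw [Subgroup.coe_mul, mul_inv_rev]
        rfl }
  have h1 := S.dim' (K := ℚ) (by norm_num) ρ (by
    intro h
    apply S.z1
    apply e.injective
    rw [map_one]
    apply Subtype.ext
    apply inv_injective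
    apply Equiv.ext
    intro i
    have h2 := congrFun (LinearMap.congr_fun h (fun j => ((j : ℕ) : ℚ))) i
    have h3 : (((((e S.z : Equiv.Perm (Fin n))⁻¹ : Equiv.Perm (Fin n)) i : Fin n) : ℕ) : ℚ) = ((i : ℕ) : ℚ) := h2
    have h4 := Fin.ext (Nat.cast_injective h3)
    rw [h4]
    rfl)
  rwa [Module.finrank_fintype_fun_eq_card, Fintype.card_fin] at h1

end Ess

end Cfsg.Agent.H772
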