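import Cfsg.Agent.H772.EssClass
import Cfsg.Agent.NotCT.Orders

/-!
# Known simple groups with `7^{1+4}`, a rational centre and 7-part `7^6` (helper772)
-/

set_option autoImplicit false

namespace Cfsg.Agent.H772

open Cfsg

universe u v

theorem Ess.known {L : Type u} [Group L] (S : Ess L) (h6 : 7 ^ 6 ∣ Nat.card L) (h7 : ¬ 7 ^ 7 ∣ Nat.card L)
    (hK : IsKnownSimple' L) : IsLieTypeChar 7 L ∨ Spor.IsoM L := by
  rcases hK with h | h | h | h | h | h | h | h | h | h
  · exfalso
    have h1 : (Nat.card L).Prime := h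
    have h2 : 7 ∣ Nat.card L := dvd_trans (by norm_num) h6
    have h3 := (Nat.prime_dvd_prime_iff_eq (by norm_num) h1).1 h2
    rw [← h3] at h6
    norm_num at h6
  · exfalso
    obtain ⟨n, -, ⟨e⟩⟩ := h
    have hn := S.alternating e
    apply h7
    rw [Nat.card_congr e.toEquiv]
    have : Nontrivial (Fin n) := Fin.nontrivial_iff_two_le.2 (by omega)
    have h1 : 2 * Nat.card (alternatingGroup (Fin n)) = n.factorial := by
      have := two_mul_nat_card_alternatingGroup (α := Fin n)
      rwa [Nat.card_perm, Nat.card_fin] at this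
    have h2 : 7 ^ 7 ∣ 2 * Nat.card (alternatingGroup (Fin n)) := by
      rw [h1]
      have h3 : 7 ^ 7 ∣ Nat.factorial 49 := by decide
      exact h3.trans (Nat.factorial_dvd_factorial (by omega))
    exact (Nat.Coprime.pow_left 7 (by norm_num : Nat.Coprime 7 2)).dvd_of_dvd_mul_left h2
  · exact Or.inl (S.classical h7 (Or.inl h))
  · exact Or.inl (S.classical h7 (Or.inr (Or.inl h)))
  · exact Or.inl (S.classical h7 (Or.inr (Or.inr (Or.inl h))))
  · exact Or.inl (S.classical h7 (Or.inr (Or.inr (Or.inr (Or.inl h)))))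
  · exact Or.inl (S.classical h7 (Or.inr (Or.inr (Or.inr (Or.inr (Or.inl h))))))
  · exact Or.inl (S.classical h7 (Or.inr (Or.inr (Or.inr (Or.inr (Or.inr h))))))
  · exact Or.inl (S.exceptional h)
  · rcases h with h | h | h | h | h | h | h | h | h | h | h | h | h | h | h | h | h | h | h | h | h | h | h | h | h | h
    · rw [NotCT.Orders.m11 h] at h6; norm_num at h6
    · rw [NotCT.Orders.m12 h] at h6; norm_num at h6
    · rw [NotCT.Orders.m22 h] at h6; norm_num at h6
    · rw [NotCT.Orders.m23 h] at h6; norm_num at h6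
    · rw [NotCT.Orders.m24 h] at h6; norm_num at h6
    · rw [NotCT.Orders.j1 h] at h6; norm_num at h6
    · rw [NotCT.Orders.j2 h] at h6; norm_num at h6
    · rw [NotCT.Orders.j3 h] at h6; norm_num at h6
    · rw [NotCT.Orders.j4 h] at h6; norm_num at h6
    · rw [NotCT.Orders.co1 h] at h6; norm_num at h6
    · rw [NotCT.Orders.co2 h] at h6; norm_num at h6
    · rw [NotCT.Orders.co3 h] at h6; norm_num at h6
    · rw [NotCT.Orders.mcl h] at h6; norm_num at h6
    · rw [NotCT.Orders.hs h] at h6; norm_num at h6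
    · rw [NotCT.Orders.suz h] at h6; norm_num at h6
    · rw [NotCT.Orders.he h] at h6; norm_num at h6
    · rw [NotCT.Orders.ru h] at h6; norm_num at h6
    · rw [NotCT.Orders.on h] at h6; norm_num at h6
    · rw [NotCT.Orders.ly h] at h6; norm_num at h6
    · rw [NotCT.Orders.fi22 h] at h6; norm_num at h6
    · rw [NotCT.Orders.fi23 h] at h6; norm_num at h6
    · rw [NotCT.Orders.fi24 h] at h6; norm_num at h6
    · rw [NotCT.Orders.hn h] at h6; norm_num at h6
    · rw [NotCT.Orders.th h] at h6; norm_num at h6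
    · rw [NotCT.Orders.b h] at h6; norm_num at h6
    · exact Or.inr h

end Cfsg.Agent.H772
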