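import Cfsg.Agent.H772.EssDim

/-!
# Lifting `7^{1+4}` through a central extension by a group of order prime to 7 (helper772)
-/

set_option autoImplicit false

namespace Cfsg.Agent.H772

universe u v

namespace Ess

section Lift

variable {H : Type u} {L : Type v} [Group H] [Group L] {π : H →* L} {m : ℕ}

theorem eq_of_pow7 (hc : ∀ k, π k = 1 → ∀ g, k * g = g * k) (hm : Nat.Coprime 7 m) (hk : ∀ k, π k = 1 → k ^ m = 1)
    {x y : H} (hx : x ^ 7 = 1) (hy : y ^ 7 = 1) (h : π x = π y) : x = y := by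
  have h1 : π (x⁻¹ * y) = 1 := by rw [map_mul, map_inv, h, inv_mul_cancel]
  have h2 : Commute x (x⁻¹ * y) := (hc _ h1 x).symm
  have h3 : (x⁻¹ * y) ^ 7 = 1 := by
    have h4 : (x * (x⁻¹ * y)) ^ 7 = x ^ 7 * (x⁻¹ * y) ^ 7 := h2.mul_pow 7
    rw [mul_inv_cancel_left, hx, hy, one_mul] at h4
    exact h4.symm
  have h4 := hk _ h1
  have h5 : orderOf (x⁻¹ * y) ∣ 1 := by
    have := Nat.dvd_gcd (orderOf_dvd_of_pow_eq_one h3) (orderOf_dvd_of_pow_eq_one h4)
    rwa [hm] at this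
  have h6 := orderOf_eq_one_iff.1 (Nat.dvd_one.1 h5)
  exact inv_mul_eq_one.1 h6

theorem exists_lift7 (hs : Function.Surjective π) (hm : Nat.Coprime 7 m) (hk : ∀ k, π k = 1 → k ^ m = 1)
    {g : L} (hg : g ^ 7 = 1) : ∃ x : H, x ^ 7 = 1 ∧ π x = g := by
  obtain ⟨k, rfl⟩ := hs g
  obtain ⟨u, hu⟩ := Nat.exists_mul_mod_eq_one_of_coprime hm.symm (by norm_num : 1 < 7)
  have h1 : π (k ^ 7) = 1 := by rw [map_pow, hg]
  refine ⟨k ^ (m * u), ?_, ?_⟩
  · rw [← pow_mul, show m * u * 7 = 7 * m * u by ring, pow_mul, pow_mul, hk _ h1, one_pow]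
  · rw [map_pow, pow_eq_pow_mod _ hg]
    have h2 : m * u % 7 = 1 := hu.2
    rw [h2, pow_one]

theorem lift (S : Ess L) (hs : Function.Surjective π) (hc : ∀ k, π k = 1 → ∀ g, k * g = g * k) (hm : Nat.Coprime 7 m)
    (hk : ∀ k, π k = 1 → k ^ m = 1) : ∃ S' : Ess H, π S'.z = S.z := by
  obtain ⟨z, hz7, hz⟩ := exists_lift7 hs hm hk S.z7
  obtain ⟨a₁, ha₁7, ha₁⟩ := exists_lift7 hs hm hk S.a₁7
  obtain ⟨b₁, hb₁7, hb₁⟩ := exists_lift7 hs hm hk S.b₁7
  obtain ⟨a₂, ha₂7, ha₂⟩ := exists_lift7 hs hm hk S.a₂7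
  obtain ⟨b₂, hb₂7, hb₂⟩ := exists_lift7 hs hm hk S.b₂7
  obtain ⟨h, hh⟩ := hs S.h
  have hcomm : ∀ {x y : H}, y ^ 7 = 1 → π x * π y = π y * π x → x * y = y * x := by
    intro x y hy hxy
    have h1 : x * y * x⁻¹ = y := by
      refine eq_of_pow7 hc hm hk ?_ hy ?_
      · rw [conj_pow, hy, mul_one, mul_inv_cancel]
      · rw [map_mul, map_mul, map_inv, hxy, mul_inv_cancel_right]
    rw [mul_inv_eq_iff_eq_mul] at h1
    exact h1
  have hzb₁ : z * b₁ = b₁ * z := hcomm hb₁7 (by rw [hz, hb₁, S.zb₁])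
  have hzb₂ : z * b₂ = b₂ * z := hcomm hb₂7 (by rw [hz, hb₂, S.zb₂])
  refine ⟨{ z := z, a₁ := a₁, b₁ := b₁, a₂ := a₂, b₂ := b₂, h := h
            z7 := hz7, a₁7 := ha₁7, b₁7 := hb₁7, a₂7 := ha₂7, b₂7 := hb₂7
            z1 := ?_
            za₁ := hcomm ha₁7 (by rw [hz, ha₁, S.za₁])
            zb₁ := hzb₁
            za₂ := hcomm ha₂7 (by rw [hz, ha₂, S.za₂])
            zb₂ := hzb₂
            c₁ := ?_
            c₂ := ?_
            caa := hcomm ha₂7 (by rw [ha₁, ha₂, S.caa])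
            cab := hcomm hb₂7 (by rw [ha₁, hb₂, S.cab])
            cba := hcomm ha₂7 (by rw [hb₁, ha₂, S.cba])
            cbb := hcomm hb₂7 (by rw [hb₁, hb₂, S.cbb])
            hz := ?_ }, hz⟩
  · rintro rfl
    rw [map_one] at hz
    exact S.z1 hz.symm
  · have h1 : a₁ * b₁ * a₁⁻¹ = z * b₁ := by
      refine eq_of_pow7 hc hm hk ?_ ?_ ?_
      · rw [conj_pow, hb₁7, mul_one, mul_inv_cancel]
      · rw [(show Commute z b₁ from hzb₁).mul_pow, hz7, hb₁7, one_mul]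
      · rw [map_mul, map_mul, map_inv, map_mul, ha₁, hb₁, hz, S.c₁]
        group
    rw [mul_inv_eq_iff_eq_mul, mul_assoc] at h1
    exact h1
  · have h1 : a₂ * b₂ * a₂⁻¹ = z * b₂ := by
      refine eq_of_pow7 hc hm hk ?_ ?_ ?_
      · rw [conj_pow, hb₂7, mul_one, mul_inv_cancel]
      · rw [(show Commute z b₂ from hzb₂).mul_pow, hz7, hb₂7, one_mul]
      · rw [map_mul, map_mul, map_inv, map_mul, ha₂, hb₂, hz, S.c₂]
        group
    rw [mul_inv_eq_iff_eq_mul, mul_assoc] at h1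
    exact h1
  · have h1 : h * z * h⁻¹ = z ^ 3 := by
      refine eq_of_pow7 hc hm hk ?_ ?_ ?_
      · rw [conj_pow, hz7, mul_one, mul_inv_cancel]
      · rw [← pow_mul, mul_comm, pow_mul, hz7, one_pow]
      · rw [map_mul, map_mul, map_inv, map_pow, hh, hz, S.hz, mul_inv_cancel_right]
    rw [mul_inv_eq_iff_eq_mul] at h1
    exact h1

end Lift

/-- transport -/
def map {H : Type u} {L : Type v} [Group H] [Group L] (S : Ess H) (f : H →* L) (hf : Function.Injective f) : Ess L where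
  z := f S.z
  a₁ := f S.a₁
  b₁ := f S.b₁
  a₂ := f S.a₂
  b₂ := f S.b₂
  h := f S.h
  z7 := by rw [← map_pow, S.z7, map_one]
  a₁7 := by rw [← map_pow, S.a₁7, map_one]
  b₁7 := by rw [← map_pow, S.b₁7, map_one]
  a₂7 := by rw [← map_pow, S.a₂7, map_one]
  b₂7 := by rw [← map_pow, S.b₂7, map_one]
  z1 := fun h => S.z1 (hf (by rw [h, map_one]))
  za₁ := by rw [← map_mul, S.za₁, map_mul]
  zb₁ := by rw [← map_mul, S.zb₁, map_mul]
  za₂ := by rw [← map_mul, S.za₂, map_mul]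
  zb₂ := by rw [← map_mul, S.zb₂, map_mul]
  c₁ := by rw [← map_mul, S.c₁, map_mul, map_mul]
  c₂ := by rw [← map_mul, S.c₂, map_mul, map_mul]
  caa := by rw [← map_mul, S.caa, map_mul]
  cab := by rw [← map_mul, S.cab, map_mul]
  cba := by rw [← map_mul, S.cba, map_mul]
  cbb := by rw [← map_mul, S.cbb, map_mul]
  hz := by rw [← map_mul, S.hz, map_mul, map_pow]

end Ess

end Cfsg.Agent.H772
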