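import Cfsg.Agent.H802.FusEss

/-!
# Essential subgroups: normal `p`-subgroups of the automizer are inner (helper772)
-/

set_option autoImplicit false

namespace Cfsg.Agent.H772

open Cfsg Cfsg.FusionSystem Cfsg.Agent.H802

variable {Ω : Type*} [Group Ω] {S : Subgroup Ω}

/-- For an essential subgroup `Q` and `g ∈ N_S(Q)` outside `Q`, some `α ∈ Aut_F(Q)` does not conjugate `c_g` into
`Aut_S(Q)`. -/
theorem exists_not_conj_of_isEssential {p : ℕ} [Fact p.Prime] [Finite S] (hS : IsPGroup p S)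
    {F : FusionSystem S} (hF : F.IsSaturated p) {Q : Subgroup Ω} (hQ : F.IsEssential p Q)
    {g : Ω} (hg : g ∈ S) (hgQ : g ∉ Q) {β : MulAut Q} (hβ : ∀ x : Q, ((β x : Q) : Ω) = g * x * g⁻¹) :
    ∃ α ∈ F.autGroup Q, α * β * α⁻¹ ∉ autInducedBy S Q := by
  obtain ⟨D, hDA, hDne, hD⟩ := exists_proper_of_isEssential hS hF hQ
  have hQr := isReceptive_of_isFullyNormalized hS hF hQ.2.1
  by_contra hcon
  push Not at hcon
  exact hDne (le_antisymm hDA fun α hα => hD α hα (extends_of_conj_mem hQr hα hg hgQ hβ (hcon α hα)))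

/-- A normal `p`-subgroup of `Aut_F(Q)`, `Q` fully automized, lies in `Aut_S(Q)`. -/
theorem le_autInducedBy_of_normal {p : ℕ} [Fact p.Prime] [Finite S]
    {F : FusionSystem S} {Q : Subgroup Ω} (hQ : F.IsFullyAutomized p Q)
    (N : Subgroup (MulAut Q)) (hN : N ≤ F.autGroup Q) (hNp : IsPGroup p N)
    (hNn : ∀ α ∈ F.autGroup Q, ∀ β ∈ N, α * β * α⁻¹ ∈ N) : N ≤ autInducedBy S Q := by
  have hQS := hQ.1
  have hfinQ : Finite Q := finite_of_le hQS
  set A := F.autGroup Q with hA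
  obtain ⟨R, hR⟩ : ∃ R : Sylow p A, (R : Subgroup A) = (autInducedBy S Q).subgroupOf A := hQ.2
  have hN' : IsPGroup p (N.subgroupOf A) := hNp.comap_subtype
  obtain ⟨P, hP⟩ := hN'.exists_le_sylow
  obtain ⟨a, ha⟩ := MulAction.exists_smul_eq A P R
  intro β hβ
  have h1 : (a⁻¹ * (⟨β, hN hβ⟩ : A) * a) ∈ N.subgroupOf A := by
    rw [Subgroup.mem_subgroupOf]
    have := hNn (a⁻¹ : A) (a⁻¹).2 β hβ
    rwa [Subgroup.coe_inv, inv_inv] at this
  have h2 : (⟨β, hN hβ⟩ : A) ∈ (R : Subgroup A) := by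
    rw [← ha, Sylow.coe_subgroup_smul]
    refine ⟨_, hP h1, ?_⟩
    show a * (a⁻¹ * (⟨β, hN hβ⟩ : A) * a) * a⁻¹ = _
    group
  rw [hR] at h2
  exact Subgroup.mem_subgroupOf.1 h2

/-- **Normal `p`-subgroups of `Aut_F(Q)`, `Q` essential, are inner.** -/
theorem le_inn_of_isEssential {p : ℕ} [Fact p.Prime] [Finite S] (hS : IsPGroup p S)
    {F : FusionSystem S} (hF : F.IsSaturated p) {Q : Subgroup Ω} (hQ : F.IsEssential p Q)
    (N : Subgroup (MulAut Q)) (hN : N ≤ F.autGroup Q) (hNp : IsPGroup p N)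
    (hNn : ∀ α ∈ F.autGroup Q, ∀ β ∈ N, α * β * α⁻¹ ∈ N) : N ≤ Inn Q := by
  have hle := le_autInducedBy_of_normal (isFullyAutomized_of_isFullyNormalized hS hF hQ.2.1) N hN hNp
    hNn
  intro β hβ
  obtain ⟨g, hg, hgβ⟩ := (mem_autInducedBy_iff S Q β).1 (hle hβ)
  by_cases hgQ : g ∈ Q
  · exact ⟨⟨g, hgQ⟩, MulEquiv.ext fun y => Subtype.ext (hgβ y).symm⟩
  · exfalso
    obtain ⟨α, hα, hnot⟩ := exists_not_conj_of_isEssential hS hF hQ hg hgQ hgβ
    exact hnot (hle (hNn α hα β hβ))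

/-- A fully normalized subgroup whose automizer is a `p`-group has `Aut_F(Q) = Aut_S(Q)`. -/
theorem autGroup_le_of_isPGroup {p : ℕ} [Fact p.Prime] [Finite S]
    {F : FusionSystem S} {Q : Subgroup Ω} (hQ : F.IsFullyAutomized p Q)
    (h : IsPGroup p (F.autGroup Q)) : F.autGroup Q ≤ autInducedBy S Q :=
  le_autInducedBy_of_normal hQ _ le_rfl h
    (fun _ hα _ hβ => mul_mem (mul_mem hα hβ) (inv_mem hα))

end Cfsg.Agent.H772
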