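import Cfsg.Agent.H772.GTwoTau

/-!
# The graded automorphism of the unipotent group of `G₂(7)` (helper772)

`τ` = conjugation by `diag(1, 1; 3^{ht r})`, of order 6; `τ x = x ^ 3`, `τ z = z ^ 5`, `π (τ u) = π (u) ^ 3`.
-/

set_option autoImplicit false

namespace Cfsg.Agent.H772.GTwo

open Cfsg Cfsg.Lie Cfsg.Agent.ChevalleyStructure.G2Sym Cfsg.Agent.ChevalleyStructure.Grading

/-- heights -/
def ht (r : ℕ) : ℤ := ([-5, -4, -3, -2, -1, -1, 1, 1, 2, 3, 4, 5] : List ℤ).getD r 0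

theorem ht_check : ∀ r < 12, gradeCheck chevG2 ht r = true := by decide +kernel

/-- the diagonal element -/
noncomputable def δ : GL chevG2.Idx K :=
  ⟨gradeMat chevG2 K ht 3, gradeMat chevG2 K ht 5,
    by rw [gradeMat_mul, show (3 : K) * 5 = 1 by decide, gradeMat_one],
    by rw [gradeMat_mul, show (5 : K) * 3 = 1 by decide, gradeMat_one]⟩

theorem coe_δ : (δ : Matrix chevG2.Idx chevG2.Idx K) = gradeMat chevG2 K ht 3 := rfl

theorem δ_word (w : List (ℕ × K)) (hw : ∀ l ∈ w, l.1 < 12) :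
    gradeMat chevG2 K ht 3 * chevG2.wordMat K w =
      chevG2.wordMat K (w.map fun l => (l.1, (3 : K) ^ (ht l.1) * l.2)) * gradeMat chevG2 K ht 3 := by
  induction w with
  | nil =>
    show _ * (1 : Matrix chevG2.Idx chevG2.Idx K) = 1 * _
    rw [mul_one, one_mul]
  | cons l w ih =>
    have h1 : chevG2.wordMat K (l :: w) = chevG2.x K l.1 l.2 * chevG2.wordMat K w := by
      simp only [ChevalleyDatum.wordMat, List.map_cons, List.prod_cons]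
    have h2 : chevG2.wordMat K ((l :: w).map fun l => (l.1, (3 : K) ^ (ht l.1) * l.2)) =
        chevG2.x K l.1 ((3 : K) ^ (ht l.1) * l.2) *
          chevG2.wordMat K (w.map fun l => (l.1, (3 : K) ^ (ht l.1) * l.2)) := by
      simp only [ChevalleyDatum.wordMat, List.map_cons, List.prod_cons]
    have hl := hw l (List.mem_cons_self ..)
    rw [h1, h2, ← mul_assoc, gradeMat_mul_x chevG2 ht 3 (by decide) l.1 hl (ht_check l.1 hl), mul_assoc,
      ih (fun l' hl' => hw l' (List.mem_cons_of_mem _ hl')), mul_assoc]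

theorem δ_el (a b c d e f : K) : δ * (el a b c d e f : GL chevG2.Idx K) * δ⁻¹ =
    (el (3 * a) (3 * b) (2 * c) (6 * d) (4 * e) (5 * f) : GL chevG2.Idx K) := by
  rw [mul_inv_eq_iff_eq_mul]
  apply Units.ext
  rw [Units.val_mul, Units.val_mul, coe_δ, coe_el, coe_el, δ_word]
  · have h1 : (3 : K) ^ (ht 6) = 3 := by decide
    have h2 : (3 : K) ^ (ht 7) = 3 := by decide
    have h3 : (3 : K) ^ (ht 8) = 2 := by decide
    have h4 : (3 : K) ^ (ht 9) = 6 := by decide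
    have h5 : (3 : K) ^ (ht 10) = 4 := by decide
    have h6 : (3 : K) ^ (ht 11) = 5 := by decide
    simp only [wd, List.map_cons, List.map_nil, h1, h2, h3, h4, h5, h6]
  · intro l hl
    simp only [wd, List.mem_cons, List.not_mem_nil, or_false] at hl
    rcases hl with rfl | rfl | rfl | rfl | rfl | rfl <;> norm_num

theorem δ_mem (u : GL chevG2.Idx K) (hu : u ∈ U) : δ * u * δ⁻¹ ∈ U := by
  obtain ⟨a, b, c, d, e, f, h⟩ := el_surj ⟨u, hu⟩
  have h1 : u = (el a b c d e f : GL chevG2.Idx K) := congrArg Subtype.val h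
  rw [h1, δ_el]
  exact (el (3 * a) (3 * b) (2 * c) (6 * d) (4 * e) (5 * f)).2

instance finite_U : Finite ↥U := Nat.finite_of_card_ne_zero (by rw [card_U]; norm_num)

/-- the automorphism, as a homomorphism -/
noncomputable def τ₀ : ↥U →* ↥U where
  toFun u := ⟨δ * u * δ⁻¹, δ_mem _ u.2⟩
  map_one' := Subtype.ext (by simp)
  map_mul' u v := Subtype.ext (by simp [mul_assoc])

theorem τ₀_injective : Function.Injective τ₀ := by
  intro u v h
  have h1 : δ * (u : GL chevG2.Idx K) * δ⁻¹ = δ * v * δ⁻¹ := congrArg Subtype.val h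
  exact Subtype.ext (mul_left_cancel (mul_right_cancel h1))

/-- the automorphism -/
noncomputable def τ : MulAut ↥U := MulEquiv.ofBijective τ₀ (Finite.injective_iff_bijective.1 τ₀_injective)

theorem τ_el (a b c d e f : K) : τ (el a b c d e f) = el (3 * a) (3 * b) (2 * c) (6 * d) (4 * e) (5 * f) :=
  Subtype.ext (δ_el ..)

theorem τ_x : τ x = x ^ 3 := by
  rw [x_cube]
  unfold x
  rw [τ_el]
  rfl

theorem τ_z : τ z = z ^ 5 := by
  rw [z_pow]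
  unfold z
  rw [τ_el]
  rfl

theorem τ_pow_el (a b c d e f : K) (k : ℕ) : (τ ^ k) (el a b c d e f) =
    el (3 ^ k * a) (3 ^ k * b) (2 ^ k * c) (6 ^ k * d) (4 ^ k * e) (5 ^ k * f) := by
  induction k with
  | zero => simp
  | succ k ih =>
    rw [pow_succ', MulAut.mul_apply, ih, τ_el]
    simp only [pow_succ']
    congr 1 <;> ring

theorem τ_six : τ ^ 6 = 1 := by
  apply MulEquiv.ext
  intro u
  obtain ⟨a, b, c, d, e, f, rfl⟩ := el_surj u
  rw [τ_pow_el, MulAut.one_apply]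
  have h1 : (3 : K) ^ 6 = 1 := by decide
  have h2 : (2 : K) ^ 6 = 1 := by decide
  have h3 : (6 : K) ^ 6 = 1 := by decide
  have h4 : (4 : K) ^ 6 = 1 := by decide
  have h5 : (5 : K) ^ 6 = 1 := by decide
  rw [h1, h2, h3, h4, h5]
  simp only [one_mul]

theorem π_τ (u : ↥U) : π (τ u) = π u ^ 3 := by
  obtain ⟨a, b, c, d, e, f, rfl⟩ := el_surj u
  rw [τ_el, π_el, π_el]
  apply Multiplicative.toAdd.injective
  show (3 * a, 3 * b) = 3 • (a, b)
  ext <;> simp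

/-! ### The extraspecial subgroup -/

theorem nmul_comm {k₀ k₁ k₂ k₃ k₄ k₅ l₀ l₁ l₂ l₃ l₄ l₅ : ℤ}
    (h : chk 7 (nw k₀ k₁ k₂ k₃ k₄ k₅ ++ nw l₀ l₁ l₂ l₃ l₄ l₅) (nw l₀ l₁ l₂ l₃ l₄ l₅ ++ nw k₀ k₁ k₂ k₃ k₄ k₅) = true) :
    (el k₀ k₁ k₂ k₃ k₄ k₅ : ↥U) * el l₀ l₁ l₂ l₃ l₄ l₅ = el l₀ l₁ l₂ l₃ l₄ l₅ * el k₀ k₁ k₂ k₃ k₄ k₅ := by
  apply ext_mat
  rw [coe_mul_el, coe_mul_el, coe_el_nw, coe_el_nw, ← wordMat_append, ← List.map_append, word_eq seven _ _ _ h,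
    List.map_append, wordMat_append]

/-- generators of an extraspecial group -/
noncomputable def a₁ : ↥U := el ((1 : ℤ) : K) ((0 : ℤ) : K) ((0 : ℤ) : K) ((0 : ℤ) : K) ((0 : ℤ) : K) ((0 : ℤ) : K)
@[inherit_doc a₁]
noncomputable def b₁ : ↥U := el ((0 : ℤ) : K) ((0 : ℤ) : K) ((0 : ℤ) : K) ((0 : ℤ) : K) ((1 : ℤ) : K) ((0 : ℤ) : K)
@[inherit_doc a₁]
noncomputable def a₂ : ↥U := el ((0 : ℤ) : K) ((0 : ℤ) : K) ((1 : ℤ) : K) ((0 : ℤ) : K) ((0 : ℤ) : K) ((0 : ℤ) : K)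
@[inherit_doc a₁]
noncomputable def b₂ : ↥U := el ((0 : ℤ) : K) ((0 : ℤ) : K) ((0 : ℤ) : K) ((5 : ℤ) : K) ((0 : ℤ) : K) ((0 : ℤ) : K)

theorem comm_aa : a₁ * a₂ = a₂ * a₁ := nmul_comm (by decide +kernel)
theorem comm_ab : a₁ * b₂ = b₂ * a₁ := nmul_comm (by decide +kernel)
theorem comm_ba : b₁ * a₂ = a₂ * b₁ := nmul_comm (by decide +kernel)
theorem comm_bb : b₁ * b₂ = b₂ * b₁ := nmul_comm (by decide +kernel)

theorem z_eq : z = el ((0 : ℤ) : K) ((0 : ℤ) : K) ((0 : ℤ) : K) ((0 : ℤ) : K) ((0 : ℤ) : K) ((1 : ℤ) : K) := by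
  unfold z; simp

theorem comm_one : a₁ * b₁ = z * (b₁ * a₁) := by
  rw [z_eq]
  unfold a₁ b₁
  rw [nmul_el (k₀ := 1) (m₀ := 1) (m₁ := 0) (m₂ := 0) (m₃ := 0) (m₄ := 1) (m₅ := 0) (by decide +kernel),
    nmul_el (k₀ := 0) (k₄ := 1) (m₀ := 1) (m₁ := 0) (m₂ := 0) (m₃ := 0) (m₄ := 1) (m₅ := 6) (by decide +kernel),
    nmul_el (k₀ := 0) (k₅ := 1) (m₀ := 1) (m₁ := 0) (m₂ := 0) (m₃ := 0) (m₄ := 1) (m₅ := 0) (by decide +kernel)]

theorem comm_two : a₂ * b₂ = z * (b₂ * a₂) := by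
  rw [z_eq]
  unfold a₂ b₂
  rw [nmul_el (k₂ := 1) (m₀ := 0) (m₁ := 0) (m₂ := 1) (m₃ := 5) (m₄ := 0) (m₅ := 0) (by decide +kernel),
    nmul_el (k₀ := 0) (k₃ := 5) (m₀ := 0) (m₁ := 0) (m₂ := 1) (m₃ := 5) (m₄ := 0) (m₅ := 6) (by decide +kernel),
    nmul_el (k₀ := 0) (k₅ := 1) (m₀ := 0) (m₁ := 0) (m₂ := 1) (m₃ := 5) (m₄ := 0) (m₅ := 0) (by decide +kernel)]

end Cfsg.Agent.H772.GTwo
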