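import Cfsg.Agent.H772.GTwoEl
import Cfsg.Agent.ChevalleyStructure.Grading

/-!
# Relations in the unipotent group of `G₂(7)` (helper772)

The element `x = el 1 1 3 4 6 5` of order 7, its centralizer (order 49), the central element `z = el 0 0 0 0 0 1`, the
elements of an extraspecial subgroup of order `7^5`, the two linear coordinates, the graded automorphism.
-/

set_option autoImplicit false

namespace Cfsg.Agent.H772.GTwo

open Cfsg Cfsg.Lie Cfsg.Agent.ChevalleyStructure.G2Sym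

/-- constant polynomial -/
abbrev cst (k : ℤ) : Poly := [([], k)]

theorem evP_cst (ρ : ℕ → K) (k : ℤ) : evP ρ (cst k) = k := by simp [evP, evM]

/-- a symbolic word in the positive roots -/
def sw (p : List Poly) : List (ℕ × Poly) := List.zip [6, 7, 8, 9, 10, 11] p

theorem coe_el_sw (ρ : ℕ → K) (p₀ p₁ p₂ p₃ p₄ p₅ : Poly) :
    ((el (evP ρ p₀) (evP ρ p₁) (evP ρ p₂) (evP ρ p₃) (evP ρ p₄) (evP ρ p₅) : GL chevG2.Idx K) :
      Matrix chevG2.Idx chevG2.Idx K) =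
    chevG2.wordMat K ((sw [p₀, p₁, p₂, p₃, p₄, p₅]).map fun l => (l.1, evP ρ l.2)) := by
  rw [coe_el]
  rfl

theorem mul_el {ρ : ℕ → K} {p₀ p₁ p₂ p₃ p₄ p₅ q₀ q₁ q₂ q₃ q₄ q₅ r₀ r₁ r₂ r₃ r₄ r₅ : Poly}
    (h : chk 7 (sw [p₀, p₁, p₂, p₃, p₄, p₅] ++ sw [q₀, q₁, q₂, q₃, q₄, q₅]) (sw [r₀, r₁, r₂, r₃, r₄, r₅]) = true) :
    el (evP ρ p₀) (evP ρ p₁) (evP ρ p₂) (evP ρ p₃) (evP ρ p₄) (evP ρ p₅) *
      el (evP ρ q₀) (evP ρ q₁) (evP ρ q₂) (evP ρ q₃) (evP ρ q₄) (evP ρ q₅) =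
    el (evP ρ r₀) (evP ρ r₁) (evP ρ r₂) (evP ρ r₃) (evP ρ r₄) (evP ρ r₅) := by
  apply ext_mat
  rw [coe_mul_el, coe_el_sw, coe_el_sw, coe_el_sw, ← word_eq seven ρ _ _ h, List.map_append, wordMat_append]

/-- the variables -/
def vars (a b c d e f : K) (k : ℕ) : K :=
  if k = 0 then a else if k = 1 then b else if k = 2 then c else if k = 3 then d else if k = 4 then e else f

/-- the element `x` -/
noncomputable def x : ↥U := el 1 1 3 4 6 5
/-- the element `z` -/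
noncomputable def z : ↥U := el 0 0 0 0 0 1

theorem chk_xu : chk 7 (sw [[([], 1)], [([], 1)], [([], 3)], [([], 4)], [([], 6)], [([], 5)]] ++
    sw [[([1], 1)], [([0, 1], 1)], [([0, 0, 1], 1)], [([0, 0, 0, 1], 1)], [([0, 0, 0, 0, 1], 1)], [([0, 0, 0, 0, 0, 1], 1)]])
    (sw [[([], 1), ([1], 1)], [([], 1), ([0, 1], 1)], [([], 3), ([0, 0, 1], 1), ([1], 6)],
      [([], 4), ([0, 0, 0, 1], 1), ([0, 1], 6), ([1], 6), ([1, 1], 5)],
      [([], 6), ([0, 0, 0, 0, 1], 1), ([0, 1], 2), ([0, 2], 5), ([1], 1), ([1, 1], 3), ([1, 2], 3)],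
      [([], 5), ([0, 0, 0, 0, 0, 1], 1), ([0, 0, 1], 2), ([0, 1], 1), ([0, 1, 1], 3), ([1], 3), ([1, 0, 1], 3), ([1, 1], 4),
        ([1, 1, 1], 6), ([2], 5), ([2, 1], 4)]]) = true := by decide +kernel

theorem chk_ux : chk 7 (
    sw [[([1], 1)], [([0, 1], 1)], [([0, 0, 1], 1)], [([0, 0, 0, 1], 1)], [([0, 0, 0, 0, 1], 1)], [([0, 0, 0, 0, 0, 1], 1)]] ++
    sw [[([], 1)], [([], 1)], [([], 3)], [([], 4)], [([], 6)], [([], 5)]])
    (sw [[([], 1), ([1], 1)], [([], 1), ([0, 1], 1)], [([], 3), ([0, 0, 1], 1), ([0, 1], 6)],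
      [([], 4), ([0, 0, 0, 1], 1), ([0, 0, 1], 2), ([0, 1], 5), ([0, 2], 6)],
      [([], 6), ([0, 0, 0, 0, 1], 1), ([0, 0, 0, 1], 4), ([0, 0, 1], 4), ([0, 1], 3), ([0, 2], 3), ([0, 3], 1)],
      [([], 5), ([0, 0, 0, 0, 0, 1], 1), ([0, 0, 0, 0, 1], 6), ([0, 0, 0, 1], 5), ([0, 0, 1], 3), ([0, 0, 2], 4), ([0, 1], 4),
        ([0, 1, 1], 6), ([0, 2], 6), ([0, 2, 1], 3), ([0, 3], 5)]]) = true := by decide +kernel

theorem x_mul (a b c d e f : K) : x * el a b c d e f =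
    el (1 + a) (1 + b) (3 + c + 6 * a) (4 + d + 6 * b + 6 * a + 5 * a * b)
      (6 + e + 2 * b + 5 * b ^ 2 + a + 3 * a * b + 3 * a * b ^ 2)
      (5 + f + 2 * c + b + 3 * b * c + 3 * a + 3 * a * c + 4 * a * b + 6 * a * b * c + 5 * a ^ 2 + 4 * a ^ 2 * b) := by
  have h := mul_el (ρ := vars a b c d e f) chk_xu
  simp only [evP, evM, vars, List.map_cons, List.map_nil, List.sum_cons, List.sum_nil, Int.cast_one, Int.cast_ofNat,
    if_true, if_false, pow_zero, pow_one, one_mul, mul_one, add_zero, Nat.reduceAdd, Nat.reduceEqDiff,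
    OfNat.ofNat_ne_zero, one_ne_zero] at h
  unfold x
  rw [h]
  congr 1 <;> ring

theorem mul_x (a b c d e f : K) : el a b c d e f * x =
    el (1 + a) (1 + b) (3 + c + 6 * b) (4 + d + 2 * c + 5 * b + 6 * b ^ 2)
      (6 + e + 4 * d + 4 * c + 3 * b + 3 * b ^ 2 + b ^ 3)
      (5 + f + 6 * e + 5 * d + 3 * c + 4 * c ^ 2 + 4 * b + 6 * b * c + 6 * b ^ 2 + 3 * b ^ 2 * c + 5 * b ^ 3) := by
  have h := mul_el (ρ := vars a b c d e f) chk_ux
  simp only [evP, evM, vars, List.map_cons, List.map_nil, List.sum_cons, List.sum_nil, Int.cast_one, Int.cast_ofNat,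
    if_true, if_false, pow_zero, pow_one, one_mul, mul_one, add_zero, Nat.reduceAdd, Nat.reduceEqDiff,
    OfNat.ofNat_ne_zero, one_ne_zero] at h
  unfold x
  rw [h]
  congr 1 <;> ring

end Cfsg.Agent.H772.GTwo
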