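import Cfsg.Agent.H772.GTwoRelB

/-!
# The two linear coordinates and the graded automorphism of the unipotent group of `G₂(7)` (helper772)
-/

set_option autoImplicit false

namespace Cfsg.Agent.H772.GTwo

open Cfsg Cfsg.Lie Cfsg.Agent.ChevalleyStructure.G2Sym Cfsg.Agent.ChevalleyStructure.Grading

/-! ### The linear coordinates -/

/-- the polynomial of a sparse vector at a position -/
def getP (v : SVec) (i : ℕ) : Poly := (v.map fun e => bif Nat.beq e.1 i then e.2 else []).flatten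

theorem evP_append (ρ : ℕ → K) (p q : Poly) : evP ρ (p ++ q) = evP ρ p + evP ρ q := by
  simp [evP]

theorem evP_getP (ρ : ℕ → K) (v : SVec) (i : ℕ) : evP ρ (getP v i) = evAt ρ v i := by
  induction v with
  | nil => rfl
  | cons e v ih =>
    rw [evAt_cons]
    have h : getP (e :: v) i = (bif Nat.beq e.1 i then e.2 else []) ++ getP v i := rfl
    rw [h, evP_append, ih]
    by_cases he : e.1 = i
    · rw [if_pos he, he, Nat.beq_refl]
      rfl
    · rw [if_neg he]
      have h2 : Nat.beq e.1 i = false := by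
        rw [← Bool.not_eq_true]
        exact fun h => he (Nat.eq_of_beq_eq_true h)
      rw [h2]
      rfl

/-- 12 variables -/
def vars2 (a b c d e f a' b' c' d' e' f' : K) (k : ℕ) : K :=
  [a, b, c, d, e, f, a', b', c', d', e', f'].getD k 0

/-- generic word with variables from `m` on -/
def gw (m : ℕ) : List (ℕ × Poly) := (List.range 6).map fun k => (6 + k, [(List.replicate (m + k) 0 ++ [1], 1)])

theorem gw_lt (m : ℕ) : ∀ l ∈ gw m, l.1 < 12 := by
  intro l hl
  obtain ⟨k, hk, rfl⟩ := List.mem_map.1 hl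
  have := List.mem_range.1 hk
  show 6 + k < 12
  omega

theorem ev_gw0 (a b c d e f a' b' c' d' e' f' : K) :
    ((gw 0).map fun l => (l.1, evP (vars2 a b c d e f a' b' c' d' e' f') l.2)) = wd a b c d e f := by
  simp [gw, wd, evP, evM, vars2, List.range_succ, List.replicate]

theorem ev_gw6 (a b c d e f a' b' c' d' e' f' : K) :
    ((gw 6).map fun l => (l.1, evP (vars2 a b c d e f a' b' c' d' e' f') l.2)) = wd a' b' c' d' e' f' := by
  simp [gw, wd, evP, evM, vars2, List.range_succ, List.replicate]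

theorem chk_a1 : getP (runS 7 (gw 0) (unitS 7)) 1 = [([1], 1)] := by decide +kernel
theorem chk_a2 : getP (runS 7 (gw 0 ++ gw 6) (unitS 7)) 1 = [([0, 0, 0, 0, 0, 0, 1], 1), ([1], 1)] := by decide +kernel
theorem chk_b1 : getP (runS 7 (gw 0) (unitS 6)) 0 = [([0, 1], 1)] := by decide +kernel
theorem chk_b2 : getP (runS 7 (gw 0 ++ gw 6) (unitS 6)) 0 = [([0, 0, 0, 0, 0, 0, 0, 1], 1), ([0, 1], 1)] := by
  decide +kernel

/-- matrix of an element -/
abbrev mt (g : ↥U) : Matrix chevG2.Idx chevG2.Idx K := ((g : GL chevG2.Idx K) : Matrix chevG2.Idx chevG2.Idx K)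

theorem entry (w : List (ℕ × Poly)) (hw : ∀ l ∈ w, l.1 < 12) (ρ : ℕ → K) (i j : chevG2.Idx) (p : Poly)
    (h : getP (runS 7 w (unitS (flat j))) (flat i) = p) :
    chevG2.wordMat K (w.map fun l => (l.1, evP ρ l.2)) i j = evP ρ p := by
  rw [word_apply seven ρ w hw, ← evP_getP, h]

/-- row and column indices -/
abbrev i0 : chevG2.Idx := Sum.inl ⟨0, by decide⟩
@[inherit_doc i0] abbrev i1 : chevG2.Idx := Sum.inl ⟨1, by decide⟩
@[inherit_doc i0] abbrev j4 : chevG2.Idx := Sum.inr ⟨4, by decide⟩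
@[inherit_doc i0] abbrev j5 : chevG2.Idx := Sum.inr ⟨5, by decide⟩

theorem mt_el_a (a b c d e f : K) : mt (el a b c d e f) i1 j5 = a := by
  unfold mt
  rw [coe_el, ← ev_gw0 a b c d e f 0 0 0 0 0 0, entry _ (gw_lt 0) _ i1 j5 _ chk_a1]
  simp [evP, evM, vars2]

theorem mt_el_b (a b c d e f : K) : mt (el a b c d e f) i0 j4 = b := by
  unfold mt
  rw [coe_el, ← ev_gw0 a b c d e f 0 0 0 0 0 0, entry _ (gw_lt 0) _ i0 j4 _ chk_b1]
  simp [evP, evM, vars2]

theorem gw_lt2 : ∀ l ∈ gw 0 ++ gw 6, l.1 < 12 := by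
  intro l hl
  rcases List.mem_append.1 hl with h | h
  · exact gw_lt 0 l h
  · exact gw_lt 6 l h

theorem mt_mul_a (g h : ↥U) : mt (g * h) i1 j5 = mt g i1 j5 + mt h i1 j5 := by
  obtain ⟨a, b, c, d, e, f, rfl⟩ := el_surj g
  obtain ⟨a', b', c', d', e', f', rfl⟩ := el_surj h
  rw [mt_el_a, mt_el_a]
  unfold mt
  rw [coe_mul_el, coe_el, coe_el, ← wordMat_append, ← ev_gw0 a b c d e f a' b' c' d' e' f',
    ← ev_gw6 a b c d e f a' b' c' d' e' f', ← List.map_append, entry _ gw_lt2 _ i1 j5 _ chk_a2]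
  simp [evP, evM, vars2]
  ring

theorem mt_mul_b (g h : ↥U) : mt (g * h) i0 j4 = mt g i0 j4 + mt h i0 j4 := by
  obtain ⟨a, b, c, d, e, f, rfl⟩ := el_surj g
  obtain ⟨a', b', c', d', e', f', rfl⟩ := el_surj h
  rw [mt_el_b, mt_el_b]
  unfold mt
  rw [coe_mul_el, coe_el, coe_el, ← wordMat_append, ← ev_gw0 a b c d e f a' b' c' d' e' f',
    ← ev_gw6 a b c d e f a' b' c' d' e' f', ← List.map_append, entry _ gw_lt2 _ i0 j4 _ chk_b2]
  simp [evP, evM, vars2]
  ring

/-- the linear coordinates -/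
noncomputable def π : ↥U →* Multiplicative (K × K) where
  toFun g := Multiplicative.ofAdd (mt g i1 j5, mt g i0 j4)
  map_one' := by
    rw [← el_zero, mt_el_a, mt_el_b]
    rfl
  map_mul' g h := by
    rw [mt_mul_a, mt_mul_b]
    rfl

theorem π_el (a b c d e f : K) : π (el a b c d e f) = Multiplicative.ofAdd (a, b) := by
  show Multiplicative.ofAdd (mt _ i1 j5, mt _ i0 j4) = _
  rw [mt_el_a, mt_el_b]

theorem π_surjective : Function.Surjective π := by
  intro y
  exact ⟨el y.toAdd.1 y.toAdd.2 0 0 0 0, π_el ..⟩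

theorem commutator_le_ker : commutator ↥U ≤ π.ker := Abelianization.commutator_subset_ker π

end Cfsg.Agent.H772.GTwo
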