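import Cfsg.Agent.H772.MetaTwoA

/-!
# 2-groups with a centric quaternion subgroup (helper772)
-/

set_option autoImplicit false

namespace Cfsg.Agent.H772

open Subgroup QuaternionGroup
open scoped commutatorElement

/-- A finite 2-group with a subgroup `Q` isomorphic to `Q₈` and `C(Q) ≤ Q` is dihedral, quasi-dihedral or
quaternion. -/
theorem cases_of_quaternion {S : Type*} [Group S] [Finite S] (hS : IsPGroup 2 S)
    (Q : Subgroup S) (e : Q ≃* QuaternionGroup 2) (hC : centralizer (Q : Set S) ≤ Q) :
    (∃ n : ℕ, Nonempty (S ≃* DihedralGroup n)) ∨ Cfsg.IsQuasiDihedral S ∨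
      (∃ n : ℕ, Nonempty (S ≃* QuaternionGroup n)) := by
  classical
  have hcardQ : Nat.card Q = 8 := by
    rw [Nat.card_congr e.toEquiv, Nat.card_eq_fintype_card]
    decide
  obtain ⟨f, hf⟩ : ∃ f : QuaternionGroup 2 →* S, ∀ w, f w = (e.symm w : S) :=
    ⟨Q.subtype.comp e.symm.toMonoidHom, fun w => rfl⟩
  have hfQ : ∀ w, f w ∈ Q := fun w => by rw [hf]; exact (e.symm w).2
  have hfs : ∀ q ∈ Q, ∃ w, f w = q := fun q hq => ⟨e ⟨q, hq⟩, by rw [hf, e.symm_apply_apply]⟩
  have hfi : Function.Injective f := by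
    intro v w h
    rw [hf, hf] at h
    exact e.symm.injective (Subtype.ext h)
  set z : S := f (a 2) with hz
  have hz1 : z ≠ 1 := by
    intro h
    rw [hz, ← map_one f] at h
    exact absurd (hfi h) (by decide)
  have hz2 : z ^ 2 = 1 := by
    rw [hz, ← map_pow, ← map_one f]
    congr 1
  -- the centre
  have hcen : ∀ c ∈ center S, c = 1 ∨ c = z := by
    intro c hc
    have hcQ : c ∈ Q := hC (mem_centralizer_iff.2 fun q _ => (mem_center_iff.1 hc q))
    obtain ⟨w, rfl⟩ := hfs c hcQ
    have h1 : w * a 1 = a 1 * w := by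
      apply hfi
      rw [map_mul, map_mul]
      exact (mem_center_iff.1 hc _).symm
    have h2 : w * xa 0 = xa 0 * w := by
      apply hfi
      rw [map_mul, map_mul]
      exact (mem_center_iff.1 hc _).symm
    have h3 : ∀ w : QuaternionGroup 2, w * a 1 = a 1 * w → w * xa 0 = xa 0 * w →
        w = 1 ∨ w = a 2 := by decide
    have h3 := h3 w h1 h2
    rcases h3 with rfl | rfl
    · left; exact map_one f
    · right; rfl
  have hnt : Nontrivial S := ⟨⟨z, 1, hz1⟩⟩
  have hzc : z ∈ center S := by
    have := hS.center_nontrivial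
    obtain ⟨c, hc⟩ := exists_ne (1 : center S)
    rcases hcen c c.2 with h | h
    · exact absurd (Subtype.ext h) hc
    · rw [← h]; exact c.2
  set Z : Subgroup S := center S with hZ
  have hZz : ∀ c, c ∈ Z ↔ c = 1 ∨ c = z := by
    intro c
    refine ⟨hcen c, ?_⟩
    rintro (rfl | rfl)
    · exact one_mem _
    · exact hzc
  have hZcomm : Z ≤ commutator S := by
    intro c hc
    rcases hcen c hc with rfl | rfl
    · exact one_mem _
    · have h1 : z = ⁅f (a 1), f (xa 0)⁆ := by
        rw [hz, ← map_commutatorElement]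
        congr 1
      rw [h1]
      exact Subgroup.commutator_mem_commutator (mem_top _) (mem_top _)
  have hZQ : Z ≤ Q := by
    intro c hc
    rcases hcen c hc with rfl | rfl
    · exact one_mem _
    · exact hfQ _
  have hZcard : Nat.card Z = 2 := by
    have h1 : Z = zpowers z := by
      refine le_antisymm ?_ (zpowers_le.2 hzc)
      intro c hc
      rcases hcen c hc with rfl | rfl
      · exact one_mem _
      · exact mem_zpowers _
    rw [h1, Nat.card_zpowers]
    exact orderOf_eq_prime hz2 hz1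
  -- the four-group in the quotient
  set V : Subgroup (S ⧸ Z) := Q.map (QuotientGroup.mk' Z) with hV
  have hVcard : Nat.card V = 4 := by
    have h1 : V.index = Q.index := by
      rw [hV, Subgroup.index_map, QuotientGroup.ker_mk', sup_eq_left.2 hZQ,
        MonoidHom.range_eq_top.2 (QuotientGroup.mk'_surjective Z), Subgroup.index_top, mul_one]
    have h2 := Subgroup.card_mul_index V
    have h3 := Subgroup.card_mul_index Q
    have h4 := Subgroup.card_mul_index Z
    have h5 : Z.index = Nat.card (S ⧸ Z) := rfl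
    have h6 : 0 < Q.index := Nat.pos_of_ne_zero Subgroup.index_ne_zero_of_finite
    rw [h1] at h2
    rw [h5, ← h2, hZcard, ← h3, hcardQ] at h4
    have h7 : (2 * Nat.card V) * Q.index = 8 * Q.index := by rw [mul_assoc]; exact h4
    have := Nat.eq_of_mul_eq_mul_right h6 h7
    omega
  have hVC : centralizer (V : Set (S ⧸ Z)) ≤ V := by
    intro g hg
    obtain ⟨g, rfl⟩ := QuotientGroup.mk'_surjective Z g
    have h1 : ∀ w, g * f w * g⁻¹ = f w ∨ g * f w * g⁻¹ = f w * z := by
      intro w
      have h2 := mem_centralizer_iff.1 hg (QuotientGroup.mk' Z (f w)) ⟨f w, hfQ w, rfl⟩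
      rw [← map_mul, ← map_mul, QuotientGroup.mk'_apply, QuotientGroup.mk'_apply,
        QuotientGroup.eq, hZz] at h2
      rcases h2 with h2 | h2
      · left
        rw [inv_mul_eq_one] at h2
        rw [← h2]; group
      · right
        rw [inv_mul_eq_iff_eq_mul] at h2
        have h4 : g⁻¹ * z = z * g⁻¹ := mem_center_iff.1 hzc g⁻¹
        rw [h2, mul_assoc (f w * g), ← h4]
        group
    -- an element of `Q` acting on `Q` like `g`
    have h3 : ∃ r : QuaternionGroup 2, g * f (a 1) * g⁻¹ = f (r * a 1 * r⁻¹) ∧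
        g * f (xa 0) * g⁻¹ = f (r * xa 0 * r⁻¹) := by
      rcases h1 (a 1) with h2 | h2 <;> rcases h1 (xa 0) with h3 | h3
      · exact ⟨1, by rw [h2]; congr 1, by rw [h3]; congr 1⟩
      · refine ⟨a 1, by rw [h2]; congr 1, ?_⟩
        rw [h3, hz, ← map_mul]; congr 1
      · refine ⟨xa 0, ?_, by rw [h3]; congr 1⟩
        rw [h2, hz, ← map_mul]; congr 1
      · refine ⟨a 1 * xa 0, ?_, ?_⟩
        · rw [h2, hz, ← map_mul]; congr 1
        · rw [h3, hz, ← map_mul]; congr 1
    obtain ⟨r, hr1, hr2⟩ := h3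
    refine ⟨g, ?_, rfl⟩
    have h4 : (f r)⁻¹ * g ∈ Q := by
      refine hC (mem_centralizer_iff.2 ?_)
      have h6 : ∀ w : QuaternionGroup 2, g * f w * g⁻¹ = f (r * w * r⁻¹) →
          w ∈ (centralizer ({(f r)⁻¹ * g} : Set S)).comap f := by
        intro w hw
        rw [mem_comap, mem_centralizer_singleton_iff]
        rw [map_mul, map_mul, map_inv] at hw
        have h7 : g * f w = f r * f w * (f r)⁻¹ * g := by rw [← hw]; group
        rw [mul_assoc ((f r)⁻¹), h7]
        group
      have h8 : ∀ w : QuaternionGroup 2, ∃ i j : Fin 4, w = (a 1) ^ (i : ℕ) * (xa 0) ^ (j : ℕ) := by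
        decide
      have h5 : ∀ w : QuaternionGroup 2, f w * ((f r)⁻¹ * g) = (f r)⁻¹ * g * f w := by
        intro w
        obtain ⟨i, j, hij⟩ := h8 w
        have h9 : w ∈ (centralizer ({(f r)⁻¹ * g} : Set S)).comap f := by
          rw [hij]
          exact mul_mem (pow_mem (h6 _ hr1) _) (pow_mem (h6 _ hr2) _)
        rwa [mem_comap, mem_centralizer_singleton_iff] at h9
      intro q hq
      obtain ⟨w, rfl⟩ := hfs q hq
      exact h5 w
    have h6 := Q.mul_mem (hfQ r) h4
    rwa [mul_inv_cancel_left] at h6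
  obtain ⟨x, hx, hxV⟩ := exists_centralizer_eq_of_card_four (hS.to_quotient Z) V hVcard hVC
  refine cases_of_index_le hS ?_ (index_commutator_le Z hZcomm x 4 (by rw [hxV, hVcard]))
  intro h
  have h1 := h (f (a 1)) (f (xa 0))
  rw [← map_mul, ← map_mul] at h1
  exact absurd (hfi h1) (by decide)

end Cfsg.Agent.H772
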