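import Cfsg.Agent.H772.PearlReal

/-!
# No element of order 3 acts as `diag(2, 1)` and another as `diag(1, 2)` on a subgroup of order 49 (helper772)
-/

set_option autoImplicit false

namespace Cfsg.Agent.H772.Pearl

open Subgroup Cfsg Cfsg.FusionSystem Cfsg.Agent.H802

universe u v

variable {X : Type u} [Group X] {D : Data X} {G : Type v} [Group G]

namespace Data

theorem pt_zero : D.pt 0 0 = 1 := by
  apply Subtype.ext
  rw [D.coe_pt, ZMod.val_zero, pow_zero, pow_zero, one_mul]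
  rfl

theorem pt_pow (i j : ZMod 7) (n : ℕ) : D.pt i j ^ n = D.pt (n * i) (n * j) := by
  induction n with
  | zero => rw [pow_zero, Nat.cast_zero, zero_mul, zero_mul, pt_zero]
  | succ n ih =>
    rw [pow_succ, ih, D.pt_mul]
    congr 1 <;> push_cast <;> ring

/-- automorphisms inner up to a power of `τ` -/
def Typ (D : Data X) (j : ℕ) (θ : MulAut X) : Prop := ∃ v, θ = MulAut.conj v * D.τ ^ j

theorem Typ.mul {i j : ℕ} {θ η : MulAut X} (h : D.Typ i θ) (h' : D.Typ j η) : D.Typ (i + j) (θ * η) := by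
  obtain ⟨v, rfl⟩ := h
  obtain ⟨w, rfl⟩ := h'
  refine ⟨v * (D.τ ^ i) w, ?_⟩
  rw [map_mul, pow_add]
  apply MulEquiv.ext
  intro y
  simp only [MulAut.mul_apply, MulAut.conj_apply, map_mul, map_inv]

theorem typ_false {j : ℕ} (hj : 3 ∣ j) {θ : MulAut X} (h : D.Typ j θ) {a : X} (ha7 : a ^ 7 = 1) (ha1 : a ≠ 1)
    (ha : θ a = a ^ 2) : False := by
  have h1 := h.mul h
  obtain ⟨w, hw⟩ := h1
  have h2 : D.τ ^ (j + j) = 1 := by
    obtain ⟨k, rfl⟩ := hj
    have : 3 * k + 3 * k = 6 * k := by ring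
    rw [this, pow_mul, D.τ6, one_pow]
  rw [h2, mul_one] at hw
  have h3 : w * a * w⁻¹ = a ^ 4 := by
    have h4 := congrArg (fun f : MulAut X => f a) hw
    simp only [MulAut.mul_apply, MulAut.conj_apply] at h4
    rw [← h4, ha, map_pow, ha, ← pow_mul]
  have h5 : ∀ n : ℕ, w ^ n * a * (w ^ n)⁻¹ = a ^ 4 ^ n := by
    intro n
    induction n with
    | zero => simp
    | succ n ih =>
      have : w ^ (n + 1) * a * (w ^ (n + 1))⁻¹ = w * (w ^ n * a * (w ^ n)⁻¹) * w⁻¹ := by
        rw [pow_succ']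
        group
      rw [this, ih, ← conj_pow, h3, ← pow_mul, pow_succ, mul_comm]
  obtain ⟨k, hk⟩ := D.isPGroup w
  have h6 := h5 (7 ^ k)
  rw [hk, one_mul, inv_one, mul_one] at h6
  have h7 : ∀ k : ℕ, 4 ^ 7 ^ k % 7 = 4 := by
    intro k
    induction k with
    | zero => norm_num
    | succ k ih =>
      rw [pow_succ, pow_mul, Nat.pow_mod, ih]
  have h8 : a ^ 4 ^ 7 ^ k = a ^ 4 := by
    rw [pow_eq_pow_mod _ ha7, h7]
  rw [h8] at h6
  have h9 : a ^ 3 = 1 := by
    have : a ^ 3 * a = 1 * a := by rw [one_mul, ← pow_succ, ← h6]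
    exact mul_right_cancel this
  apply ha1
  have : a ^ 7 = (a ^ 3) ^ 2 * a := by group
  rw [this, h9, one_pow, one_mul] at ha7
  exact ha7

end Data

namespace Real

variable {ι : X →* G} (R : Real D ι)

include R

theorem no_torus [Finite G] {a b s t : G} (ha7 : a ^ 7 = 1) (hb7 : b ^ 7 = 1) (ha1 : a ≠ 1) (hb1 : b ≠ 1)
    (hab : a * b = b * a) (hne : a ∉ zpowers b) (hsa : s * a * s⁻¹ = a ^ 2) (hsb : s * b * s⁻¹ = b)
    (htb : t * b * t⁻¹ = b ^ 2) (hta : t * a * t⁻¹ = a) : False := by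
  classical
  have hfin := D.finite
  -- conjugation into the image
  have hW : IsPGroup 7 (closure ({a, b} : Set G)) := by
    have h1 : IsPGroup 7 (zpowers a ⊔ zpowers b : Subgroup G) := by
      refine IsPGroup.to_sup_of_normal_right' ?_ ?_ ?_
      · exact IsPGroup.of_card (n := 1) (by rw [Nat.card_zpowers, pow_one]; exact orderOf_eq_prime ha7 ha1)
      · exact IsPGroup.of_card (n := 1) (by rw [Nat.card_zpowers, pow_one]; exact orderOf_eq_prime hb7 hb1)
      · rw [zpowers_le]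
        refine (centralizer_le_normalizer (G := G) (s := (zpowers b : Set G))) ?_
        rw [mem_centralizer_iff]
        rintro _ ⟨k, rfl⟩
        exact ((show Commute b a from hab.symm).zpow_left k).eq
    have h2 : closure ({a, b} : Set G) = zpowers a ⊔ zpowers b := by
      rw [Set.insert_eq, Subgroup.closure_union, zpowers_eq_closure, zpowers_eq_closure]
    rw [h2]
    exact h1
  obtain ⟨g, hg⟩ := R.exists_conj hW
  obtain ⟨a', ha'⟩ := hg a (subset_closure (by simp))
  obtain ⟨b', hb'⟩ := hg b (subset_closure (by simp))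
  -- transported data
  obtain ⟨s', hs'⟩ : ∃ s' : G, s' = g * s * g⁻¹ := ⟨_, rfl⟩
  obtain ⟨t', ht'⟩ : ∃ t' : G, t' = g * t * g⁻¹ := ⟨_, rfl⟩
  have ha7' : a' ^ 7 = 1 := R.inj (by rw [map_pow, ha', conj_pow, ha7, map_one, mul_one, mul_inv_cancel])
  have hb7' : b' ^ 7 = 1 := R.inj (by rw [map_pow, hb', conj_pow, hb7, map_one, mul_one, mul_inv_cancel])
  have ha1' : a' ≠ 1 := by
    rintro rfl
    rw [map_one] at ha'
    apply ha1
    calc a = g⁻¹ * (g * a * g⁻¹) * g := by group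
      _ = 1 := by rw [← ha']; group
  have hb1' : b' ≠ 1 := by
    rintro rfl
    rw [map_one] at hb'
    apply hb1
    calc b = g⁻¹ * (g * b * g⁻¹) * g := by group
      _ = 1 := by rw [← hb']; group
  have hne' : a' ∉ zpowers b' := by
    intro h
    obtain ⟨k, hk⟩ := mem_zpowers_iff.1 h
    apply hne
    refine mem_zpowers_iff.2 ⟨k, ?_⟩
    have h1 := congrArg ι hk
    rw [map_zpow, ha', hb', conj_zpow] at h1
    exact mul_left_cancel (mul_right_cancel h1)
  have hsa' : s' * ι a' * s'⁻¹ = ι (a' ^ 2) := by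
    rw [hs', map_pow, ha', conj_pow, ← hsa]
    group
  have hsb' : s' * ι b' * s'⁻¹ = ι b' := by
    rw [hs', hb']
    calc _ = g * (s * b * s⁻¹) * g⁻¹ := by group
      _ = _ := by rw [hsb]
  have htb' : t' * ι b' * t'⁻¹ = ι (b' ^ 2) := by
    rw [ht', map_pow, hb', conj_pow, ← htb]
    group
  have hta' : t' * ι a' * t'⁻¹ = ι a' := by
    rw [ht', ha']
    calc _ = g * (t * a * t⁻¹) * g⁻¹ := by group
      _ = _ := by rw [hta]
  obtain ⟨P, hPdef⟩ : ∃ P : Subgroup X, P = closure ({a', b'} : Set X) := ⟨_, rfl⟩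
  have haP : a' ∈ P := by rw [hPdef]; exact subset_closure (by simp)
  have hbP : b' ∈ P := by rw [hPdef]; exact subset_closure (by simp)
  have hmapP : ∀ {c : G}, c * ι a' * c⁻¹ ∈ ι.range → c * ι b' * c⁻¹ ∈ ι.range → ∀ y : P, c * ι y * c⁻¹ ∈ ι.range := by
    intro c h1 h2 y
    have h3 : P ≤ (ι.range).comap ((MulAut.conj c).toMonoidHom.comp ι) := by
      rw [hPdef, closure_le]
      rintro w (rfl | rfl)
      · exact h1
      · exact h2
    exact h3 y.2
  by_cases hsub : H775.Ext.Sub D.F₀ D.E P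
  · obtain ⟨φ, hφ, hm⟩ := hsub
    obtain ⟨c, hc⟩ := (R.iff P φ).1 (H775.Ext.le_ext le_top _ hφ)
    obtain ⟨a'', ha''⟩ : ∃ a'' : D.E, (a'' : X) = φ ⟨a', haP⟩ := ⟨⟨_, hm _⟩, rfl⟩
    obtain ⟨b'', hb''⟩ : ∃ b'' : D.E, (b'' : X) = φ ⟨b', hbP⟩ := ⟨⟨_, hm _⟩, rfl⟩
    have hca : ι a'' = c * ι a' * c⁻¹ := by rw [ha'']; exact hc _
    have hcb : ι b'' = c * ι b' * c⁻¹ := by rw [hb'']; exact hc _
    have hb1'' : b'' ≠ 1 := by
      intro h
      rw [h] at hcb
      apply hb1'
      apply R.inj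
      rw [map_one]
      calc ι b' = c⁻¹ * (c * ι b' * c⁻¹) * c := by group
        _ = 1 := by rw [← hcb]; simp
    have hb7'' : b'' ^ 7 = 1 := by
      apply Subtype.ext
      apply R.inj
      rw [Subgroup.coe_pow, map_pow, hcb, conj_pow, ← map_pow, hb7', map_one, mul_one, mul_inv_cancel]
      rw [Subgroup.coe_one, map_one]
    have hne'' : a'' ∉ zpowers b'' := by
      intro h
      obtain ⟨k, hk⟩ := mem_zpowers_iff.1 h
      apply hne'
      refine mem_zpowers_iff.2 ⟨k, ?_⟩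
      apply R.inj
      have h1 := congrArg (fun y : D.E => ι y) hk
      simp only [Subgroup.coe_zpow, map_zpow] at h1
      rw [hca, hcb, conj_zpow] at h1
      rw [map_zpow]
      exact mul_left_cancel (mul_right_cancel h1)
    -- generation
    have hgen : (⊤ : Subgroup D.E) ≤ closure ({a'', b''} : Set D.E) := by
      have h1 : zpowers b'' ≤ closure ({a'', b''} : Set D.E) := zpowers_le.2 (subset_closure (by simp))
      have h2 : closure ({a'', b''} : Set D.E) ≠ zpowers b'' := by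
        intro h
        apply hne''
        rw [← h]
        exact subset_closure (by simp)
      have h3 : Nat.card (zpowers b'') = 7 := by rw [Nat.card_zpowers]; exact orderOf_eq_prime hb7'' hb1''
      have h4 : Nat.card (closure ({a'', b''} : Set D.E)) ∣ 7 ^ 2 := by
        have := Subgroup.card_subgroup_dvd_card (closure ({a'', b''} : Set D.E))
        rwa [D.card_E] at this
      obtain ⟨k, hk, hke⟩ := (Nat.dvd_prime_pow (by norm_num)).1 h4
      have h5 : Nat.card (zpowers b'') < Nat.card (closure ({a'', b''} : Set D.E)) := by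
        refine lt_of_le_of_ne (Nat.card_mono (Set.toFinite _) h1) fun heq => ?_
        exact h2 (Subgroup.eq_of_le_of_card_ge h1 heq.ge).symm
      rw [h3, hke] at h5
      have h6 : k = 2 := by interval_cases k <;> omega
      rw [h6] at hke
      exact (Subgroup.eq_top_of_card_eq _ (by rw [hke, D.card_E]; norm_num)).ge
    obtain ⟨s'', hs''⟩ : ∃ s'' : G, s'' = c * s' * c⁻¹ := ⟨_, rfl⟩
    have hsa'' : s'' * ι a'' * s''⁻¹ = ι (a'' ^ 2 : D.E) := by
      rw [hs'', Subgroup.coe_pow, map_pow, hca, conj_pow, ← map_pow, ← hsa']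
      group
    have hsb'' : s'' * ι b'' * s''⁻¹ = ι b'' := by
      rw [hs'', hcb]
      calc _ = c * (s' * ι b' * s'⁻¹) * c⁻¹ := by group
        _ = _ := by rw [hsb']
    obtain ⟨A, hA⟩ := R.exists_A (g := s'') (by
      intro y hy
      have h1 : (⊤ : Subgroup D.E) ≤ (D.E.map ι).comap ((MulAut.conj s'').toMonoidHom.comp (ι.comp D.E.subtype)) := by
        refine hgen.trans ?_
        rw [closure_le]
        rintro w (rfl | rfl)
        · show s'' * ι w * s''⁻¹ ∈ D.E.map ι
          rw [hsa'']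
          exact ⟨_, (w ^ 2).2, rfl⟩
        · show s'' * ι w * s''⁻¹ ∈ D.E.map ι
          rw [hsb'']
          exact ⟨_, w.2, rfl⟩
      exact h1 (mem_top ⟨y, hy⟩))
    have hAa : D.ρ A a'' = a'' ^ 2 := by
      apply Subtype.ext
      apply R.inj
      rw [hA, hsa'']
    have hAb : D.ρ A b'' = b'' := by
      apply Subtype.ext
      apply R.inj
      rw [hA, hsb'']
    obtain ⟨i, j, rfl⟩ := D.exists_pt a''
    obtain ⟨k, l, rfl⟩ := D.exists_pt b''
    rw [D.ρ_pt, Data.pt_pow] at hAa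
    rw [D.ρ_pt] at hAb
    obtain ⟨e1, e2⟩ := D.pt_inj hAa
    obtain ⟨e3, e4⟩ := D.pt_inj hAb
    have hdet : A.1 0 0 * A.1 1 1 - A.1 0 1 * A.1 1 0 = 1 := by
      have := A.2
      rwa [Matrix.det_fin_two] at this
    have hil : i * l = j * k := by
      have h1 : (A.1 0 0 * i + A.1 0 1 * j) * (A.1 1 0 * k + A.1 1 1 * l) -
          (A.1 1 0 * i + A.1 1 1 * j) * (A.1 0 0 * k + A.1 0 1 * l) = i * l - j * k := by
        linear_combination (i * l - j * k) * hdet
      rw [e1, e2, e3, e4] at h1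
      push_cast at h1
      linear_combination h1
    by_cases hk0 : k = 0
    · have hl0 : l ≠ 0 := by
        rintro rfl
        exact hb1'' (by rw [hk0, Data.pt_zero])
      apply hne''
      have h1 : D.pt i j = D.pt k l ^ (j * l⁻¹).val := by
        rw [Data.pt_pow, ZMod.natCast_zmod_val]
        congr 1
        · rw [hk0, mul_zero]
          rw [hk0, mul_zero] at hil
          exact (mul_eq_zero.1 hil).resolve_right hl0
        · rw [mul_assoc, inv_mul_cancel₀ hl0, mul_one]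
      rw [h1]
      exact pow_mem (mem_zpowers _) _
    · apply hne''
      have h1 : D.pt i j = D.pt k l ^ (i * k⁻¹).val := by
        rw [Data.pt_pow, ZMod.natCast_zmod_val]
        congr 1
        · rw [mul_assoc, inv_mul_cancel₀ hk0, mul_one]
        · rw [mul_right_comm, hil, mul_assoc, mul_inv_cancel₀ hk0, mul_one]
      rw [h1]
      exact pow_mem (mem_zpowers _) _
  · obtain ⟨u, k, hk⟩ := R.exists_F₀ hsub (g := s') (hmapP (by rw [hsa']; exact ⟨_, rfl⟩) (by rw [hsb']; exact ⟨_, rfl⟩))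
    obtain ⟨w, l, hl⟩ := R.exists_F₀ hsub (g := t') (hmapP (by rw [hta']; exact ⟨_, rfl⟩) (by rw [htb']; exact ⟨_, rfl⟩))
    have hα : D.Typ k (MulAut.conj u * D.τ ^ k) := ⟨u, rfl⟩
    have hβ : D.Typ l (MulAut.conj w * D.τ ^ l) := ⟨w, rfl⟩
    have hαa : (MulAut.conj u * D.τ ^ k) a' = a' ^ 2 := by
      apply R.inj
      rw [← hsa']
      exact (hk ⟨a', haP⟩).symm
    have hβa : (MulAut.conj w * D.τ ^ l) a' = a' := by
      apply R.inj
      exact (hl ⟨a', haP⟩).symm.trans hta'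
    have hβb : (MulAut.conj w * D.τ ^ l) b' = b' ^ 2 := by
      apply R.inj
      rw [← htb']
      exact (hl ⟨b', hbP⟩).symm
    obtain ⟨α, hαd⟩ : ∃ α : MulAut X, α = MulAut.conj u * D.τ ^ k := ⟨_, rfl⟩
    obtain ⟨β, hβd⟩ : ∃ β : MulAut X, β = MulAut.conj w * D.τ ^ l := ⟨_, rfl⟩
    rw [← hαd] at hα hαa
    rw [← hβd] at hβ hβa hβb
    have h1 : ¬ 3 ∣ l := fun h => Data.typ_false h hβ hb7' hb1' hβb
    have h2 : ¬ 3 ∣ k := fun h => Data.typ_false h hα ha7' ha1' hαa
    have h3 : ¬ 3 ∣ k + l := fun h => Data.typ_false h (hα.mul hβ) ha7' ha1' (by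
      rw [MulAut.mul_apply, hβa, hαa])
    have h4 : ¬ 3 ∣ k + l + l := fun h => Data.typ_false h ((hα.mul hβ).mul hβ) ha7' ha1' (by
      rw [MulAut.mul_apply, hβa, MulAut.mul_apply, hβa, hαa])
    have h5 : k % 3 = 1 ∨ k % 3 = 2 := by omega
    have h6 : l % 3 = 1 ∨ l % 3 = 2 := by omega
    rcases h5 with h5 | h5 <;> rcases h6 with h6 | h6 <;> omega

end Real

end Cfsg.Agent.H772.Pearl
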