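import Cfsg.Agent.H772.PearlChar
import Cfsg.Agent.H772.PearlTorus
import Cfsg.Agent.H772.EssKnown

/-!
# The system with a pearl is not realizable, given the classification and `(7:3) × (7:3) ≤ M` (helper772)
-/

set_option autoImplicit false

namespace Cfsg.Agent.H772.Pearl

open Subgroup Cfsg Cfsg.FusionSystem Cfsg.Agent.H386.Factor

universe u v

variable {X : Type u} [Group X] {D : Data X} {G : Type v} [Group G]

/-- the elements of `(7:3) × (7:3)` -/
def Torus (L : Type u) [Group L] : Prop :=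
  ∃ a b s t : L, a ^ 7 = 1 ∧ b ^ 7 = 1 ∧ a ≠ 1 ∧ b ≠ 1 ∧ a * b = b * a ∧ a ∉ zpowers b ∧ s * a * s⁻¹ = a ^ 2 ∧
    s * b * s⁻¹ = b ∧ t * b * t⁻¹ = b ^ 2 ∧ t * a * t⁻¹ = a

/-- the element `diag(5, 3)` -/
def A53 : Matrix.SpecialLinearGroup (Fin 2) (ZMod 7) := ⟨!![5, 0; 0, 3], by rw [Matrix.det_fin_two_of]; decide⟩

theorem Data.A53_z : ((D.ρ A53 (D.pt 0 1) : D.E) : X) = D.z ^ 3 := by
  rw [D.ρ_pt, D.coe_pt]
  show D.x ^ ((5 : ZMod 7) * 0 + 0 * 1).val * D.z ^ ((0 : ZMod 7) * 0 + 3 * 1).val = _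
  have e1 : ((5 : ZMod 7) * 0 + 0 * 1).val = 0 := by decide
  have e2 : ((0 : ZMod 7) * 0 + 3 * 1).val = 3 := by decide
  rw [e1, e2, pow_zero, one_mul]

namespace Real

variable {ι : X →* G} (R : Real D ι)

include R

/-- the extraspecial group in `N` -/
theorem exists_ess [Finite G] {N : Subgroup G} [hN : N.Normal] (h7 : 7 ∣ Nat.card N) : Nonempty (Ess N) := by
  have htop := R.comap_eq_top h7
  have hιN : ∀ y, ι y ∈ N := fun y => by
    have : y ∈ N.comap ι := by rw [htop]; exact mem_top y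
    exact this
  let f : X →* N := ι.codRestrict N hιN
  have hf : Function.Injective f := fun y w h => R.inj (congrArg Subtype.val h)
  obtain ⟨n, hn, hne⟩ := R.exists_n h7 A53
  have h1 := hne (D.pt 0 1)
  rw [Data.A53_z, D.coe_pt01] at h1
  refine ⟨{ z := f D.z, a₁ := f D.a₁, b₁ := f D.b₁, a₂ := f D.a₂, b₂ := f D.b₂, h := ⟨n, hn⟩
            z7 := by rw [← map_pow, D.z7, map_one]
            a₁7 := by rw [← map_pow, D.a₁7, map_one]
            b₁7 := by rw [← map_pow, D.b₁7, map_one]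
            a₂7 := by rw [← map_pow, D.a₂7, map_one]
            b₂7 := by rw [← map_pow, D.b₂7, map_one]
            z1 := fun h => D.z1 (hf (by rw [h, map_one]))
            za₁ := by rw [← map_mul, D.zc, map_mul]
            zb₁ := by rw [← map_mul, D.zc, map_mul]
            za₂ := by rw [← map_mul, D.zc, map_mul]
            zb₂ := by rw [← map_mul, D.zc, map_mul]
            c₁ := by rw [← map_mul, D.c₁, map_mul, map_mul]
            c₂ := by rw [← map_mul, D.c₂, map_mul, map_mul]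
            caa := by rw [← map_mul, D.caa, map_mul]
            cab := by rw [← map_mul, D.cab, map_mul]
            cba := by rw [← map_mul, D.cba, map_mul]
            cbb := by rw [← map_mul, D.cbb, map_mul]
            hz := ?_ }⟩
  apply Subtype.ext
  show n * ι D.z = (ι D.z) ^ 3 * n
  rw [← map_pow, h1]
  group

theorem pow_six_dvd [Finite G] {N : Subgroup G} [hN : N.Normal] (h7 : 7 ∣ Nat.card N) : 7 ^ 6 ∣ Nat.card N := by
  have htop := R.comap_eq_top h7
  rw [← R.card_range]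
  refine card_dvd_of_le ?_
  rintro _ ⟨y, rfl⟩
  have : y ∈ N.comap ι := by rw [htop]; exact mem_top y
  exact this

theorem not_pow_seven_dvd [Finite G] (N : Subgroup G) : ¬ 7 ^ 7 ∣ Nat.card N := by
  intro h
  obtain ⟨T, hT⟩ := R.syl
  have h1 : Nat.card T = 7 ^ 6 := by
    rw [← R.card_range, ← hT]
  have h2 := T.card_eq_multiplicity
  rw [h1] at h2
  have h3 := Nat.pow_right_injective (le_refl 2 |>.trans (by norm_num)) h2
  have h4 : 7 ^ 7 ∣ Nat.card G := h.trans (Subgroup.card_subgroup_dvd_card N)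
  have h5 := (Nat.Prime.pow_dvd_iff_le_factorization (by norm_num) Nat.card_pos.ne').1 h4
  omega

end Real

theorem not_realizable [Fact (Nat.Prime 7)] (D : Data X)
    (hK : ∀ (L : Type u) [Group L] [Finite L] [IsSimpleGroup L], IsKnownSimple' L)
    (hM : ∀ (L : Type u) [Group L] [Finite L], Spor.IsoM L → Torus L) : ¬ D.F.IsRealizable 7 := by
  intro h
  obtain ⟨G, _, _, ι, R, hO⟩ := exists_real D h
  have hnt : Nontrivial G := R.nontrivial_G
  obtain ⟨N, hN, hN1, hmin⟩ := exists_min_normal (G := G)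
  obtain ⟨h7, hna⟩ := R.min_normal hO hN1
  have hs := R.isSimple_of_minimal hmin h7 hna
  obtain ⟨S⟩ := R.exists_ess h7
  have hc : ∃ a b : N, a * b ≠ b * a := by
    by_contra hcon
    push Not at hcon
    exact hna fun x hx y hy => congrArg Subtype.val (hcon ⟨x, hx⟩ ⟨y, hy⟩)
  rcases S.known (R.pow_six_dvd h7) (R.not_pow_seven_dvd N) (hK N) with h1 | h1
  · exact R.not_lieTypeChar h7 hc h1
  · obtain ⟨a, b, s, t, ha7, hb7, ha1, hb1, hab, hne, hsa, hsb, htb, hta⟩ := hM N h1
    refine R.no_torus (a := a) (b := b) (s := s) (t := t) (congrArg Subtype.val ha7) (congrArg Subtype.val hb7)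
      (fun h => ha1 (Subtype.ext h)) (fun h => hb1 (Subtype.ext h)) (congrArg Subtype.val hab) (fun h => hne ?_)
      (congrArg Subtype.val hsa) (congrArg Subtype.val hsb) (congrArg Subtype.val htb) (congrArg Subtype.val hta)
    obtain ⟨k, hk⟩ := mem_zpowers_iff.1 h
    refine mem_zpowers_iff.2 ⟨k, Subtype.ext ?_⟩
    rw [Subgroup.coe_zpow]
    exact hk

end Cfsg.Agent.H772.Pearl
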